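import Mathlib
import Cfsg.Agent.Lib.Helper56.TC
import Cfsg.Agent.Lib.Helper56.Fi24a.C0
import Cfsg.Agent.Lib.Helper56.Fi24a.C1
import Cfsg.Agent.Lib.Helper56.Fi24a.C2
import Cfsg.Agent.Lib.Helper56.Fi24a.C3
import Cfsg.Agent.Lib.Helper56.Fi24a.C4
import Cfsg.Agent.Lib.Helper56.Fi24a.C5
import Cfsg.Agent.Lib.Helper56.Fi24a.C6
import Cfsg.Agent.Lib.Helper56.Fi24a.C7
import Cfsg.Agent.Lib.Helper56.Fi24a.C8
import Cfsg.Agent.Lib.Helper56.Fi24a.C9
import Cfsg.Agent.Lib.Helper56.Fi24a.C10
import Cfsg.Agent.Lib.Helper56.Fi24a.C11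
import Cfsg.Agent.Lib.Helper56.Fi24a.C12
import Cfsg.Agent.Lib.Helper56.Fi24a.C13
import Cfsg.Agent.Lib.Helper56.Fi24a.C14
import Cfsg.Agent.Lib.Helper56.Fi24a.C15
import Cfsg.Agent.Lib.Helper56.Fi24a.C16
import Cfsg.Agent.Lib.Helper56.Fi24a.C17
import Cfsg.Agent.Lib.Helper56.Fi24a.C18
import Cfsg.Agent.Lib.Helper56.Fi24a.C19
import Cfsg.Agent.Lib.Helper56.Fi24a.C20
import Cfsg.Agent.Lib.Helper56.Fi24a.C21
import Cfsg.Agent.Lib.Helper56.Fi24a.C22
import Cfsg.Agent.Lib.Helper56.Fi24a.C23
import Cfsg.Agent.Lib.Helper56.Fi24a.C24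
import Cfsg.Agent.Lib.Helper56.Fi24a.C25
import Cfsg.Agent.Lib.Helper56.Fi24a.C26
import Cfsg.Agent.Lib.Helper56.Fi24a.C27
import Cfsg.Agent.Lib.Helper56.Fi24a.C28
import Cfsg.Agent.Lib.Helper56.Fi24a.C29
import Cfsg.Agent.Lib.Helper56.Fi24a.C30
import Cfsg.Agent.Lib.Helper56.Fi24a.C31
import Cfsg.Agent.Lib.Helper56.Fi24a.C32
import Cfsg.Agent.Lib.Helper56.Fi24a.C33
import Cfsg.Agent.Lib.Helper56.Fi24a.C34
import Cfsg.Agent.Lib.Helper56.Fi24a.C35
import Cfsg.Agent.Lib.Helper56.Fi24a.C36
import Cfsg.Agent.Lib.Helper56.Fi24a.C37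
import Cfsg.Agent.Lib.Helper56.Fi24a.C38
import Cfsg.Agent.Lib.Helper56.Fi24a.C39
import Cfsg.Agent.Lib.Helper56.Fi24a.C40
import Cfsg.Agent.Lib.Helper56.Fi24a.C41
import Cfsg.Agent.Lib.Helper56.Fi24a.C42
import Cfsg.Agent.Lib.Helper56.Fi24a.C43
import Cfsg.Agent.Lib.Helper56.Fi24a.C44
import Cfsg.Agent.Lib.Helper56.Fi24a.C45
import Cfsg.Agent.Lib.Helper56.Fi24a.C46
import Cfsg.Agent.Lib.Helper56.Fi24a.C47
import Cfsg.Agent.Lib.Helper56.Fi24a.C48
import Cfsg.Agent.Lib.Helper56.Fi24a.C49
import Cfsg.Agent.Lib.Helper56.Fi24a.C50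
import Cfsg.Agent.Lib.Helper56.Fi24a.C51
import Cfsg.Agent.Lib.Helper56.Fi24a.C52
import Cfsg.Agent.Lib.Helper56.Fi24a.C53
import Cfsg.Agent.Lib.Helper56.Fi24a.C54
import Cfsg.Agent.Lib.Helper56.Fi24a.C55
import Cfsg.Agent.Lib.Helper56.Fi24a.C56
import Cfsg.Agent.Lib.Helper56.Fi24a.C57
import Cfsg.Agent.Lib.Helper56.Fi24a.C58
import Cfsg.Agent.Lib.Helper56.Fi24a.C59
import Cfsg.Agent.Lib.Helper56.Fi24a.C60
import Cfsg.Agent.Lib.Helper56.Fi24a.C61
import Cfsg.Agent.Lib.Helper56.Fi24a.C62
import Cfsg.Agent.Lib.Helper56.Fi24a.C63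
import Cfsg.Agent.Lib.Helper56.Fi24a.C64
import Cfsg.Agent.Lib.Helper56.Fi24a.C65
import Cfsg.Agent.Lib.Helper56.Fi24a.C66
import Cfsg.Agent.Lib.Helper56.Fi24a.C67
import Cfsg.Agent.Lib.Helper56.Fi24a.C68
import Cfsg.Agent.Lib.Helper56.Fi24a.C69
import Cfsg.Agent.Lib.Helper56.Fi24a.C70
import Cfsg.Agent.Lib.Helper56.Fi24a.C71
import Cfsg.Agent.Lib.Helper56.Fi24a.C72
import Cfsg.Agent.Lib.Helper56.Fi24a.C73
import Cfsg.Agent.Lib.Helper56.Fi24a.C74
import Cfsg.Agent.Lib.Helper56.Fi24a.C75
import Cfsg.Agent.Lib.Helper56.Fi24a.C76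
import Cfsg.Agent.Lib.Helper56.Fi24a.C77
import Cfsg.Agent.Lib.Helper56.Fi24a.C78
import Cfsg.Agent.Lib.Helper56.Fi24a.C79
import Cfsg.Agent.Lib.Helper56.Fi24a.C80
import Cfsg.Agent.Lib.Helper56.Fi24a.C81
import Cfsg.Agent.Lib.Helper56.Fi24a.C82
import Cfsg.Agent.Lib.Helper56.Fi24a.C83
import Cfsg.Agent.Lib.Helper56.Fi24a.C84
import Cfsg.Agent.Lib.Helper56.Fi24a.C85
import Cfsg.Agent.Lib.Helper56.Fi24a.C86
import Cfsg.Agent.Lib.Helper56.Fi24a.C87
import Cfsg.Agent.Lib.Helper56.Fi24a.C88
import Cfsg.Agent.Lib.Helper56.Fi24a.C89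
import Cfsg.Agent.Lib.Helper56.Fi24a.C90
import Cfsg.Agent.Lib.Helper56.Fi24a.C91
import Cfsg.Agent.Lib.Helper56.Fi24a.C92
import Cfsg.Agent.Lib.Helper56.Fi24a.C93
import Cfsg.Agent.Lib.Helper56.Fi24a.C94
import Cfsg.Agent.Lib.Helper56.Fi24a.C95
import Cfsg.Agent.Lib.Helper56.Fi24a.C96
import Cfsg.Agent.Lib.Helper56.Fi24a.C97
import Cfsg.Agent.Lib.Helper56.Fi24a.C98
import Cfsg.Agent.Lib.Helper56.Fi24a.C99
import Cfsg.Agent.Lib.Helper56.Fi24a.C100
import Cfsg.Agent.Lib.Helper56.Fi24a.C101
import Cfsg.Agent.Lib.Helper56.Fi24a.C102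
import Cfsg.Agent.Lib.Helper56.Fi24a.C103
import Cfsg.Agent.Lib.Helper56.Fi24a.C104
import Cfsg.Agent.Lib.Helper56.Fi24a.C105
import Cfsg.Agent.Lib.Helper56.Fi24a.C106
import Cfsg.Agent.Lib.Helper56.Fi24a.C107
import Cfsg.Agent.Lib.Helper56.Fi24a.C108
import Cfsg.Agent.Lib.Helper56.Fi24a.C109
import Cfsg.Agent.Lib.Helper56.Fi24a.C110
import Cfsg.Agent.Lib.Helper56.Fi24a.C111
import Cfsg.Agent.Lib.Helper56.Fi24a.C112
import Cfsg.Agent.Lib.Helper56.Fi24a.C113
import Cfsg.Agent.Lib.Helper56.Fi24a.C114
import Cfsg.Agent.Lib.Helper56.Fi24a.C115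
import Cfsg.Agent.Lib.Helper56.Fi24a.C116
import Cfsg.Agent.Lib.Helper56.Fi24a.C117
import Cfsg.Agent.Lib.Helper56.Fi24a.C118
import Cfsg.Agent.Lib.Helper56.Fi24a.C119
import Cfsg.Agent.Lib.Helper56.Fi24a.C120
import Cfsg.Agent.Lib.Helper56.Fi24a.C121
import Cfsg.Agent.Lib.Helper56.Fi24a.C122
import Cfsg.Agent.Lib.Helper56.Fi24a.C123
import Cfsg.Agent.Lib.Helper56.Fi24a.C124
import Cfsg.Agent.Lib.Helper56.Fi24a.C125
import Cfsg.Agent.Lib.Helper56.Fi24a.C126
import Cfsg.Agent.Lib.Helper56.Fi24a.C127
import Cfsg.Agent.Lib.Helper56.Fi24a.C128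
import Cfsg.Agent.Lib.Helper56.Fi24a.C129
import Cfsg.Agent.Lib.Helper56.Fi24a.C130
import Cfsg.Agent.Lib.Helper56.Fi24a.C131
import Cfsg.Agent.Lib.Helper56.Fi24a.C132
import Cfsg.Agent.Lib.Helper56.Fi24a.C133
import Cfsg.Agent.Lib.Helper56.Fi24a.C134
import Cfsg.Agent.Lib.Helper56.Fi24a.C135
import Cfsg.Agent.Lib.Helper56.Fi24a.C136
import Cfsg.Agent.Lib.Helper56.Fi24a.C137
import Cfsg.Agent.Lib.Helper56.Fi24a.C138
import Cfsg.Agent.Lib.Helper56.Fi24a.C139
import Cfsg.Agent.Lib.Helper56.Fi24a.C140
import Cfsg.Agent.Lib.Helper56.Fi24a.C141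
import Cfsg.Agent.Lib.Helper56.Fi24a.C142
import Cfsg.Agent.Lib.Helper56.Fi24a.C143
import Cfsg.Agent.Lib.Helper56.Fi24a.C144
import Cfsg.Agent.Lib.Helper56.Fi24a.C145
import Cfsg.Agent.Lib.Helper56.Fi24a.C146
import Cfsg.Agent.Lib.Helper56.Fi24a.C147
import Cfsg.Agent.Lib.Helper56.Fi24a.C148
import Cfsg.Agent.Lib.Helper56.Fi24a.C149
import Cfsg.Agent.Lib.Helper56.Fi24a.C150
import Cfsg.Agent.Lib.Helper56.Fi24a.C151
import Cfsg.Agent.Lib.Helper56.Fi24a.C152
import Cfsg.Agent.Lib.Helper56.Fi24a.C153
import Cfsg.Agent.Lib.Helper56.Fi24a.C154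
import Cfsg.Agent.Lib.Helper56.Fi24a.C155
import Cfsg.Agent.Lib.Helper56.Fi24a.C156
import Cfsg.Agent.Lib.Helper56.Fi24a.C157
import Cfsg.Agent.Lib.Helper56.Fi24a.C158
import Cfsg.Agent.Lib.Helper56.Fi24a.C159
import Cfsg.Agent.Lib.Helper56.Fi24a.C160
import Cfsg.Agent.Lib.Helper56.Fi24a.C161
import Cfsg.Agent.Lib.Helper56.Fi24a.C162
import Cfsg.Agent.Lib.Helper56.Fi24a.C163
import Cfsg.Agent.Lib.Helper56.Fi24a.C164
import Cfsg.Agent.Lib.Helper56.Fi24a.C165
import Cfsg.Agent.Lib.Helper56.Fi24a.C166
import Cfsg.Agent.Lib.Helper56.Fi24a.C167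
import Cfsg.Agent.Lib.Helper56.Fi24a.C168
import Cfsg.Agent.Lib.Helper56.Fi24a.C169
import Cfsg.Agent.Lib.Helper56.Fi24a.C170
import Cfsg.Agent.Lib.Helper56.Fi24a.C171
import Cfsg.Agent.Lib.Helper56.Fi24a.C172
import Cfsg.Agent.Lib.Helper56.Fi24a.C173
import Cfsg.Agent.Lib.Helper56.Fi24a.C174
import Cfsg.Agent.Lib.Helper56.Fi24a.C175
import Cfsg.Agent.Lib.Helper56.Fi24a.C176
import Cfsg.Agent.Lib.Helper56.Fi24a.C177
import Cfsg.Agent.Lib.Helper56.Fi24a.C178
import Cfsg.Agent.Lib.Helper56.Fi24a.C179
import Cfsg.Agent.Lib.Helper56.Fi24a.C180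
import Cfsg.Agent.Lib.Helper56.Fi24a.C181
import Cfsg.Agent.Lib.Helper56.Fi24a.C182
import Cfsg.Agent.Lib.Helper56.Fi24a.C183
import Cfsg.Agent.Lib.Helper56.Fi24a.C184
import Cfsg.Agent.Lib.Helper56.Fi24a.C185
import Cfsg.Agent.Lib.Helper56.Fi24a.C186
import Cfsg.Agent.Lib.Helper56.Fi24a.C187
import Cfsg.Agent.Lib.Helper56.Fi24a.C188
import Cfsg.Agent.Lib.Helper56.Fi24a.C189
import Cfsg.Agent.Lib.Helper56.Fi24a.C190
import Cfsg.Agent.Lib.Helper56.Fi24a.C191
import Cfsg.Agent.Lib.Helper56.Fi24a.C192
import Cfsg.Agent.Lib.Helper56.Fi24a.C193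
import Cfsg.Agent.Lib.Helper56.Fi24a.C194
import Cfsg.Agent.Lib.Helper56.Fi24a.C195
import Cfsg.Agent.Lib.Helper56.Fi24a.C196
import Cfsg.Agent.Lib.Helper56.Fi24a.C197
import Cfsg.Agent.Lib.Helper56.Fi24a.C198
import Cfsg.Agent.Lib.Helper56.Fi24a.C199
import Cfsg.Agent.Lib.Helper56.Fi24a.C200
import Cfsg.Agent.Lib.Helper56.Fi24a.C201
import Cfsg.Agent.Lib.Helper56.Fi24a.C202
import Cfsg.Agent.Lib.Helper56.Fi24a.C203
import Cfsg.Agent.Lib.Helper56.Fi24a.C204
import Cfsg.Agent.Lib.Helper56.Fi24a.C205
import Cfsg.Agent.Lib.Helper56.Fi24a.C206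
import Cfsg.Agent.Lib.Helper56.Fi24a.C207
import Cfsg.Agent.Lib.Helper56.Fi24a.C208
import Cfsg.Agent.Lib.Helper56.Fi24a.C209
import Cfsg.Agent.Lib.Helper56.Fi24a.C210
import Cfsg.Agent.Lib.Helper56.Fi24a.C211
import Cfsg.Agent.Lib.Helper56.Fi24a.C212
import Cfsg.Agent.Lib.Helper56.Fi24a.C213
import Cfsg.Agent.Lib.Helper56.Fi24a.C214
import Cfsg.Agent.Lib.Helper56.Fi24a.C215
import Cfsg.Agent.Lib.Helper56.Fi24a.C216
import Cfsg.Agent.Lib.Helper56.Fi24a.C217
import Cfsg.Agent.Lib.Helper56.Fi24a.C218
import Cfsg.Agent.Lib.Helper56.Fi24a.C219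
import Cfsg.Agent.Lib.Helper56.Fi24a.C220
import Cfsg.Agent.Lib.Helper56.Fi24a.C221
import Cfsg.Agent.Lib.Helper56.Fi24a.C222
import Cfsg.Agent.Lib.Helper56.Fi24a.C223
import Cfsg.Agent.Lib.Helper56.Fi24a.C224
import Cfsg.Agent.Lib.Helper56.Fi24a.C225
import Cfsg.Agent.Lib.Helper56.Fi24a.C226
import Cfsg.Agent.Lib.Helper56.Fi24a.C227
import Cfsg.Agent.Lib.Helper56.Fi24a.C228
import Cfsg.Agent.Lib.Helper56.Fi24a.C229
import Cfsg.Agent.Lib.Helper56.Fi24a.C230
import Cfsg.Agent.Lib.Helper56.Fi24a.C231
import Cfsg.Agent.Lib.Helper56.Fi24a.C232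
import Cfsg.Agent.Lib.Helper56.Fi24a.C233
import Cfsg.Agent.Lib.Helper56.Fi24a.C234
import Cfsg.Agent.Lib.Helper56.Fi24a.C235
import Cfsg.Agent.Lib.Helper56.Fi24a.C236
import Cfsg.Agent.Lib.Helper56.Fi24a.C237
import Cfsg.Agent.Lib.Helper56.Fi24a.C238
import Cfsg.Agent.Lib.Helper56.Fi24a.C239
import Cfsg.Agent.Lib.Helper56.Fi24a.C240
import Cfsg.Agent.Lib.Helper56.Fi24a.C241
import Cfsg.Agent.Lib.Helper56.Fi24a.C242
import Cfsg.Agent.Lib.Helper56.Fi24a.C243
import Cfsg.Agent.Lib.Helper56.Fi24a.C244
import Cfsg.Agent.Lib.Helper56.Fi24a.C245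
import Cfsg.Agent.Lib.Helper56.Fi24a.C246
import Cfsg.Agent.Lib.Helper56.Fi24a.C247
import Cfsg.Agent.Lib.Helper56.Fi24a.C248
import Cfsg.Agent.Lib.Helper56.Fi24a.C249
import Cfsg.Agent.Lib.Helper56.Fi24a.C250
import Cfsg.Agent.Lib.Helper56.Fi24a.C251
import Cfsg.Agent.Lib.Helper56.Fi24a.C252
import Cfsg.Agent.Lib.Helper56.Fi24a.C253
import Cfsg.Agent.Lib.Helper56.Fi24a.C254
import Cfsg.Agent.Lib.Helper56.Fi24a.C255
import Cfsg.Agent.Lib.Helper56.Fi24a.C256
import Cfsg.Agent.Lib.Helper56.Fi24a.C257
import Cfsg.Agent.Lib.Helper56.Fi24a.C258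
import Cfsg.Agent.Lib.Helper56.Fi24a.C259
import Cfsg.Agent.Lib.Helper56.Fi24a.C260
import Cfsg.Agent.Lib.Helper56.Fi24a.C261
import Cfsg.Agent.Lib.Helper56.Fi24a.C262
import Cfsg.Agent.Lib.Helper56.Fi24a.C263
import Cfsg.Agent.Lib.Helper56.Fi24a.C264
import Cfsg.Agent.Lib.Helper56.Fi24a.C265
import Cfsg.Agent.Lib.Helper56.Fi24a.C266
import Cfsg.Agent.Lib.Helper56.Fi24a.C267
import Cfsg.Agent.Lib.Helper56.Fi24a.C268
import Cfsg.Agent.Lib.Helper56.Fi24a.C269
import Cfsg.Agent.Lib.Helper56.Fi24a.C270
import Cfsg.Agent.Lib.Helper56.Fi24a.C271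
import Cfsg.Agent.Lib.Helper56.Fi24a.C272
import Cfsg.Agent.Lib.Helper56.Fi24a.C273
import Cfsg.Agent.Lib.Helper56.Fi24a.C274
import Cfsg.Agent.Lib.Helper56.Fi24a.C275
import Cfsg.Agent.Lib.Helper56.Fi24a.C276
import Cfsg.Agent.Lib.Helper56.Fi24a.C277
import Cfsg.Agent.Lib.Helper56.Fi24a.C278
import Cfsg.Agent.Lib.Helper56.Fi24a.C279
import Cfsg.Agent.Lib.Helper56.Fi24a.C280
import Cfsg.Agent.Lib.Helper56.Fi24a.C281
import Cfsg.Agent.Lib.Helper56.Fi24a.C282
import Cfsg.Agent.Lib.Helper56.Fi24a.C283
import Cfsg.Agent.Lib.Helper56.Fi24a.C284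
import Cfsg.Agent.Lib.Helper56.Fi24a.C285
import Cfsg.Agent.Lib.Helper56.Fi24a.C286
import Cfsg.Agent.Lib.Helper56.Fi24a.C287
import Cfsg.Agent.Lib.Helper56.Fi24a.C288
import Cfsg.Agent.Lib.Helper56.Fi24a.C289
import Cfsg.Agent.Lib.Helper56.Fi24a.C290
import Cfsg.Agent.Lib.Helper56.Fi24a.C291
import Cfsg.Agent.Lib.Helper56.Fi24a.C292
import Cfsg.Agent.Lib.Helper56.Fi24a.C293
import Cfsg.Agent.Lib.Helper56.Fi24a.C294
import Cfsg.Agent.Lib.Helper56.Fi24a.C295
import Cfsg.Agent.Lib.Helper56.Fi24a.C296
import Cfsg.Agent.Lib.Helper56.Fi24a.C297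
import Cfsg.Agent.Lib.Helper56.Fi24a.C298
import Cfsg.Agent.Lib.Helper56.Fi24a.C299
import Cfsg.Agent.Lib.Helper56.Fi24a.C300
import Cfsg.Agent.Lib.Helper56.Fi24a.C301
import Cfsg.Agent.Lib.Helper56.Fi24a.C302
import Cfsg.Agent.Lib.Helper56.Fi24a.C303
import Cfsg.Agent.Lib.Helper56.Fi24a.C304
import Cfsg.Agent.Lib.Helper56.Fi24a.C305
import Cfsg.Agent.Lib.Helper56.Fi24a.C306
import Cfsg.Agent.Lib.Helper56.Fi24a.C307
import Cfsg.Agent.Lib.Helper56.Fi24a.C308
import Cfsg.Agent.Lib.Helper56.Fi24a.C309
import Cfsg.Agent.Lib.Helper56.Fi24a.C310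
import Cfsg.Agent.Lib.Helper56.Fi24a.C311
import Cfsg.Agent.Lib.Helper56.Fi24a.C312
import Cfsg.Agent.Lib.Helper56.Fi24a.C313
import Cfsg.Agent.Lib.Helper56.Fi24a.C314
import Cfsg.Agent.Lib.Helper56.Fi24a.C315
import Cfsg.Agent.Lib.Helper56.Fi24a.C316
import Cfsg.Agent.Lib.Helper56.Fi24a.C317
import Cfsg.Agent.Lib.Helper56.Fi24a.C318
import Cfsg.Agent.Lib.Helper56.Fi24a.C319
import Cfsg.Agent.Lib.Helper56.Fi24a.C320
import Cfsg.Agent.Lib.Helper56.Fi24a.C321
import Cfsg.Agent.Lib.Helper56.Fi24a.C322
import Cfsg.Agent.Lib.Helper56.Fi24a.C323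
import Cfsg.Agent.Lib.Helper56.Fi24a.C324
import Cfsg.Agent.Lib.Helper56.Fi24a.C325
import Cfsg.Agent.Lib.Helper56.Fi24a.C326
import Cfsg.Agent.Lib.Helper56.Fi24a.C327
import Cfsg.Agent.Lib.Helper56.Fi24a.C328
import Cfsg.Agent.Lib.Helper56.Fi24a.C329
import Cfsg.Agent.Lib.Helper56.Fi24a.C330
import Cfsg.Agent.Lib.Helper56.Fi24a.C331
import Cfsg.Agent.Lib.Helper56.Fi24a.C332
import Cfsg.Agent.Lib.Helper56.Fi24a.C333
import Cfsg.Agent.Lib.Helper56.Fi24a.C334
import Cfsg.Agent.Lib.Helper56.Fi24a.C335
import Cfsg.Agent.Lib.Helper56.Fi24a.C336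
import Cfsg.Agent.Lib.Helper56.Fi24a.C337
import Cfsg.Agent.Lib.Helper56.Fi24a.C338
import Cfsg.Agent.Lib.Helper56.Fi24a.C339
import Cfsg.Agent.Lib.Helper56.Fi24a.C340
import Cfsg.Agent.Lib.Helper56.Fi24a.C341
import Cfsg.Agent.Lib.Helper56.Fi24a.C342
import Cfsg.Agent.Lib.Helper56.Fi24a.C343
import Cfsg.Agent.Lib.Helper56.Fi24a.C344
import Cfsg.Agent.Lib.Helper56.Fi24a.C345
import Cfsg.Agent.Lib.Helper56.Fi24a.C346
import Cfsg.Agent.Lib.Helper56.Fi24a.C347
import Cfsg.Agent.Lib.Helper56.Fi24a.C348
import Cfsg.Agent.Lib.Helper56.Fi24a.C349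
import Cfsg.Agent.Lib.Helper56.Fi24a.C350
import Cfsg.Agent.Lib.Helper56.Fi24a.C351
import Cfsg.Agent.Lib.Helper56.Fi24a.C352
import Cfsg.Agent.Lib.Helper56.Fi24a.C353
import Cfsg.Agent.Lib.Helper56.Fi24a.C354
import Cfsg.Agent.Lib.Helper56.Fi24a.C355
import Cfsg.Agent.Lib.Helper56.Fi24a.C356
import Cfsg.Agent.Lib.Helper56.Fi24a.C357
import Cfsg.Agent.Lib.Helper56.Fi24a.C358
import Cfsg.Agent.Lib.Helper56.Fi24a.C359
import Cfsg.Agent.Lib.Helper56.Fi24a.C360
import Cfsg.Agent.Lib.Helper56.Fi24a.C361
import Cfsg.Agent.Lib.Helper56.Fi24a.C362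
import Cfsg.Agent.Lib.Helper56.Fi24a.C363
import Cfsg.Agent.Lib.Helper56.Fi24a.C364
set_option autoImplicit false
set_option maxRecDepth 1000000

namespace Cfsg.Agent.Lib.Helper56.Fi24a

open Cfsg.Agent.Lib.Helper56.TC Cfsg.Agent.Lib.Helper56.TC.Tabs

theorem uN_370 : Upto T.chkName 370 := upto_add (upto_zero T.chkName) rfl cN_0
theorem uN_743 : Upto T.chkName 743 := upto_add uN_370 rfl cN_370
theorem uN_1119 : Upto T.chkName 1119 := upto_add uN_743 rfl cN_743
theorem uN_1495 : Upto T.chkName 1495 := upto_add uN_1119 rfl cN_1119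
theorem uN_1870 : Upto T.chkName 1870 := upto_add uN_1495 rfl cN_1495
theorem uN_2249 : Upto T.chkName 2249 := upto_add uN_1870 rfl cN_1870
theorem uN_2625 : Upto T.chkName 2625 := upto_add uN_2249 rfl cN_2249
theorem uN_3006 : Upto T.chkName 3006 := upto_add uN_2625 rfl cN_2625
theorem uN_3381 : Upto T.chkName 3381 := upto_add uN_3006 rfl cN_3006
theorem uN_3765 : Upto T.chkName 3765 := upto_add uN_3381 rfl cN_3381
theorem uN_4143 : Upto T.chkName 4143 := upto_add uN_3765 rfl cN_3765
theorem uN_4519 : Upto T.chkName 4519 := upto_add uN_4143 rfl cN_4143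
theorem uN_4903 : Upto T.chkName 4903 := upto_add uN_4519 rfl cN_4519
theorem uN_5286 : Upto T.chkName 5286 := upto_add uN_4903 rfl cN_4903
theorem uN_5665 : Upto T.chkName 5665 := upto_add uN_5286 rfl cN_5286
theorem uN_6041 : Upto T.chkName 6041 := upto_add uN_5665 rfl cN_5665
theorem uN_6423 : Upto T.chkName 6423 := upto_add uN_6041 rfl cN_6041
theorem uN_6809 : Upto T.chkName 6809 := upto_add uN_6423 rfl cN_6423
theorem uN_7190 : Upto T.chkName 7190 := upto_add uN_6809 rfl cN_6809
theorem uN_7567 : Upto T.chkName 7567 := upto_add uN_7190 rfl cN_7190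
theorem uN_7939 : Upto T.chkName 7939 := upto_add uN_7567 rfl cN_7567
theorem uN_8320 : Upto T.chkName 8320 := upto_add uN_7939 rfl cN_7939
theorem uN_8707 : Upto T.chkName 8707 := upto_add uN_8320 rfl cN_8320
theorem uN_9093 : Upto T.chkName 9093 := upto_add uN_8707 rfl cN_8707
theorem uN_9473 : Upto T.chkName 9473 := upto_add uN_9093 rfl cN_9093
theorem uN_9852 : Upto T.chkName 9852 := upto_add uN_9473 rfl cN_9473
theorem uN_10228 : Upto T.chkName 10228 := upto_add uN_9852 rfl cN_9852
theorem uN_10604 : Upto T.chkName 10604 := upto_add uN_10228 rfl cN_10228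
theorem uN_10989 : Upto T.chkName 10989 := upto_add uN_10604 rfl cN_10604
theorem uN_11379 : Upto T.chkName 11379 := upto_add uN_10989 rfl cN_10989
theorem uN_11765 : Upto T.chkName 11765 := upto_add uN_11379 rfl cN_11379
theorem uN_12150 : Upto T.chkName 12150 := upto_add uN_11765 rfl cN_11765
theorem uN_12530 : Upto T.chkName 12530 := upto_add uN_12150 rfl cN_12150
theorem uN_12908 : Upto T.chkName 12908 := upto_add uN_12530 rfl cN_12530
theorem uN_13283 : Upto T.chkName 13283 := upto_add uN_12908 rfl cN_12908
theorem uN_13658 : Upto T.chkName 13658 := upto_add uN_13283 rfl cN_13283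
theorem uN_14044 : Upto T.chkName 14044 := upto_add uN_13658 rfl cN_13658
theorem uN_14430 : Upto T.chkName 14430 := upto_add uN_14044 rfl cN_14044
theorem uN_14823 : Upto T.chkName 14823 := upto_add uN_14430 rfl cN_14430
theorem uN_15209 : Upto T.chkName 15209 := upto_add uN_14823 rfl cN_14823
theorem uN_15595 : Upto T.chkName 15595 := upto_add uN_15209 rfl cN_15209
theorem uN_15974 : Upto T.chkName 15974 := upto_add uN_15595 rfl cN_15595
theorem uN_16355 : Upto T.chkName 16355 := upto_add uN_15974 rfl cN_15974
theorem uN_16734 : Upto T.chkName 16734 := upto_add uN_16355 rfl cN_16355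
theorem uN_17110 : Upto T.chkName 17110 := upto_add uN_16734 rfl cN_16734
theorem uN_17486 : Upto T.chkName 17486 := upto_add uN_17110 rfl cN_17110
theorem uN_17872 : Upto T.chkName 17872 := upto_add uN_17486 rfl cN_17486
theorem uN_18256 : Upto T.chkName 18256 := upto_add uN_17872 rfl cN_17872
theorem uN_18648 : Upto T.chkName 18648 := upto_add uN_18256 rfl cN_18256
theorem uN_19040 : Upto T.chkName 19040 := upto_add uN_18648 rfl cN_18648
theorem uN_19427 : Upto T.chkName 19427 := upto_add uN_19040 rfl cN_19040
theorem uN_19816 : Upto T.chkName 19816 := upto_add uN_19427 rfl cN_19427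
theorem uN_20197 : Upto T.chkName 20197 := upto_add uN_19816 rfl cN_19816
theorem uN_20576 : Upto T.chkName 20576 := upto_add uN_20197 rfl cN_20197
theorem uN_20958 : Upto T.chkName 20958 := upto_add uN_20576 rfl cN_20576
theorem uN_21338 : Upto T.chkName 21338 := upto_add uN_20958 rfl cN_20958
theorem uN_21717 : Upto T.chkName 21717 := upto_add uN_21338 rfl cN_21338
theorem uN_22093 : Upto T.chkName 22093 := upto_add uN_21717 rfl cN_21717
theorem uN_22470 : Upto T.chkName 22470 := upto_add uN_22093 rfl cN_22093
theorem uN_22854 : Upto T.chkName 22854 := upto_add uN_22470 rfl cN_22470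
theorem uN_23240 : Upto T.chkName 23240 := upto_add uN_22854 rfl cN_22854
theorem uN_23628 : Upto T.chkName 23628 := upto_add uN_23240 rfl cN_23240
theorem uN_24021 : Upto T.chkName 24021 := upto_add uN_23628 rfl cN_23628
theorem uN_24413 : Upto T.chkName 24413 := upto_add uN_24021 rfl cN_24021
theorem uN_24802 : Upto T.chkName 24802 := upto_add uN_24413 rfl cN_24413
theorem uN_25189 : Upto T.chkName 25189 := upto_add uN_24802 rfl cN_24802
theorem uN_25574 : Upto T.chkName 25574 := upto_add uN_25189 rfl cN_25189
theorem uN_25954 : Upto T.chkName 25954 := upto_add uN_25574 rfl cN_25574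
theorem uN_26334 : Upto T.chkName 26334 := upto_add uN_25954 rfl cN_25954
theorem uN_26718 : Upto T.chkName 26718 := upto_add uN_26334 rfl cN_26334
theorem uN_27098 : Upto T.chkName 27098 := upto_add uN_26718 rfl cN_26718
theorem uN_27480 : Upto T.chkName 27480 := upto_add uN_27098 rfl cN_27098
theorem uN_27860 : Upto T.chkName 27860 := upto_add uN_27480 rfl cN_27480
theorem uN_28236 : Upto T.chkName 28236 := upto_add uN_27860 rfl cN_27860
theorem uN_28614 : Upto T.chkName 28614 := upto_add uN_28236 rfl cN_28236
theorem uN_28992 : Upto T.chkName 28992 := upto_add uN_28614 rfl cN_28614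
theorem uN_29382 : Upto T.chkName 29382 := upto_add uN_28992 rfl cN_28992
theorem uN_29766 : Upto T.chkName 29766 := upto_add uN_29382 rfl cN_29382
theorem uN_30157 : Upto T.chkName 30157 := upto_add uN_29766 rfl cN_29766
theorem uN_30551 : Upto T.chkName 30551 := upto_add uN_30157 rfl cN_30157
theorem uN_30943 : Upto T.chkName 30943 := upto_add uN_30551 rfl cN_30551
theorem uN_31334 : Upto T.chkName 31334 := upto_add uN_30943 rfl cN_30943
theorem uN_31723 : Upto T.chkName 31723 := upto_add uN_31334 rfl cN_31334
theorem uN_32111 : Upto T.chkName 32111 := upto_add uN_31723 rfl cN_31723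
theorem uN_32499 : Upto T.chkName 32499 := upto_add uN_32111 rfl cN_32111
theorem uN_32879 : Upto T.chkName 32879 := upto_add uN_32499 rfl cN_32499
theorem uN_33258 : Upto T.chkName 33258 := upto_add uN_32879 rfl cN_32879
theorem uN_33640 : Upto T.chkName 33640 := upto_add uN_33258 rfl cN_33258
theorem uN_34024 : Upto T.chkName 34024 := upto_add uN_33640 rfl cN_33640
theorem uN_34409 : Upto T.chkName 34409 := upto_add uN_34024 rfl cN_34024
theorem uN_34787 : Upto T.chkName 34787 := upto_add uN_34409 rfl cN_34409
theorem uN_35169 : Upto T.chkName 35169 := upto_add uN_34787 rfl cN_34787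
theorem uN_35549 : Upto T.chkName 35549 := upto_add uN_35169 rfl cN_35169
theorem uN_35924 : Upto T.chkName 35924 := upto_add uN_35549 rfl cN_35549
theorem uN_36302 : Upto T.chkName 36302 := upto_add uN_35924 rfl cN_35924
theorem uN_36680 : Upto T.chkName 36680 := upto_add uN_36302 rfl cN_36302
theorem uN_37064 : Upto T.chkName 37064 := upto_add uN_36680 rfl cN_36680
theorem uN_37453 : Upto T.chkName 37453 := upto_add uN_37064 rfl cN_37064
theorem uN_37838 : Upto T.chkName 37838 := upto_add uN_37453 rfl cN_37453
theorem uN_38228 : Upto T.chkName 38228 := upto_add uN_37838 rfl cN_37838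
theorem uN_38621 : Upto T.chkName 38621 := upto_add uN_38228 rfl cN_38228
theorem uN_39016 : Upto T.chkName 39016 := upto_add uN_38621 rfl cN_38621
theorem uN_39409 : Upto T.chkName 39409 := upto_add uN_39016 rfl cN_39016
theorem uN_39802 : Upto T.chkName 39802 := upto_add uN_39409 rfl cN_39409
theorem uN_40190 : Upto T.chkName 40190 := upto_add uN_39802 rfl cN_39802
theorem uN_40578 : Upto T.chkName 40578 := upto_add uN_40190 rfl cN_40190
theorem uN_40966 : Upto T.chkName 40966 := upto_add uN_40578 rfl cN_40578
theorem uN_41353 : Upto T.chkName 41353 := upto_add uN_40966 rfl cN_40966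
theorem uN_41733 : Upto T.chkName 41733 := upto_add uN_41353 rfl cN_41353
theorem uN_42112 : Upto T.chkName 42112 := upto_add uN_41733 rfl cN_41733
theorem uN_42494 : Upto T.chkName 42494 := upto_add uN_42112 rfl cN_42112
theorem uN_42877 : Upto T.chkName 42877 := upto_add uN_42494 rfl cN_42494
theorem uN_43261 : Upto T.chkName 43261 := upto_add uN_42877 rfl cN_42877
theorem uN_43645 : Upto T.chkName 43645 := upto_add uN_43261 rfl cN_43261
theorem uN_44026 : Upto T.chkName 44026 := upto_add uN_43645 rfl cN_43645
theorem uN_44405 : Upto T.chkName 44405 := upto_add uN_44026 rfl cN_44026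
theorem uN_44788 : Upto T.chkName 44788 := upto_add uN_44405 rfl cN_44405
theorem uN_45170 : Upto T.chkName 45170 := upto_add uN_44788 rfl cN_44788
theorem uN_45545 : Upto T.chkName 45545 := upto_add uN_45170 rfl cN_45170
theorem uN_45923 : Upto T.chkName 45923 := upto_add uN_45545 rfl cN_45545
theorem uN_46303 : Upto T.chkName 46303 := upto_add uN_45923 rfl cN_45923
theorem uN_46679 : Upto T.chkName 46679 := upto_add uN_46303 rfl cN_46303
theorem uN_47068 : Upto T.chkName 47068 := upto_add uN_46679 rfl cN_46679
theorem uN_47457 : Upto T.chkName 47457 := upto_add uN_47068 rfl cN_47068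
theorem uN_47841 : Upto T.chkName 47841 := upto_add uN_47457 rfl cN_47457
theorem uN_48233 : Upto T.chkName 48233 := upto_add uN_47841 rfl cN_47841
theorem uN_48624 : Upto T.chkName 48624 := upto_add uN_48233 rfl cN_48233
theorem uN_49021 : Upto T.chkName 49021 := upto_add uN_48624 rfl cN_48624
theorem uN_49413 : Upto T.chkName 49413 := upto_add uN_49021 rfl cN_49021
theorem uN_49807 : Upto T.chkName 49807 := upto_add uN_49413 rfl cN_49413
theorem uN_50202 : Upto T.chkName 50202 := upto_add uN_49807 rfl cN_49807
theorem uN_50590 : Upto T.chkName 50590 := upto_add uN_50202 rfl cN_50202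
theorem uN_50979 : Upto T.chkName 50979 := upto_add uN_50590 rfl cN_50590
theorem uN_51367 : Upto T.chkName 51367 := upto_add uN_50979 rfl cN_50979
theorem uN_51755 : Upto T.chkName 51755 := upto_add uN_51367 rfl cN_51367
theorem uN_52140 : Upto T.chkName 52140 := upto_add uN_51755 rfl cN_51755
theorem uN_52519 : Upto T.chkName 52519 := upto_add uN_52140 rfl cN_52140
theorem uN_52900 : Upto T.chkName 52900 := upto_add uN_52519 rfl cN_52519
theorem uN_53278 : Upto T.chkName 53278 := upto_add uN_52900 rfl cN_52900
theorem uN_53661 : Upto T.chkName 53661 := upto_add uN_53278 rfl cN_53278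
theorem uN_54044 : Upto T.chkName 54044 := upto_add uN_53661 rfl cN_53661
theorem uN_54427 : Upto T.chkName 54427 := upto_add uN_54044 rfl cN_54044
theorem uN_54811 : Upto T.chkName 54811 := upto_add uN_54427 rfl cN_54427
theorem uN_55195 : Upto T.chkName 55195 := upto_add uN_54811 rfl cN_54811
theorem uN_55579 : Upto T.chkName 55579 := upto_add uN_55195 rfl cN_55195
theorem uN_55955 : Upto T.chkName 55955 := upto_add uN_55579 rfl cN_55579
theorem uN_56336 : Upto T.chkName 56336 := upto_add uN_55955 rfl cN_55955
theorem uN_56719 : Upto T.chkName 56719 := upto_add uN_56336 rfl cN_56336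
theorem uN_57099 : Upto T.chkName 57099 := upto_add uN_56719 rfl cN_56719
theorem uN_57474 : Upto T.chkName 57474 := upto_add uN_57099 rfl cN_57099
theorem uN_57853 : Upto T.chkName 57853 := upto_add uN_57474 rfl cN_57474
theorem uN_58231 : Upto T.chkName 58231 := upto_add uN_57853 rfl cN_57853
theorem uN_58611 : Upto T.chkName 58611 := upto_add uN_58231 rfl cN_58231
theorem uN_59000 : Upto T.chkName 59000 := upto_add uN_58611 rfl cN_58611
theorem uN_59389 : Upto T.chkName 59389 := upto_add uN_59000 rfl cN_59000
theorem uN_59774 : Upto T.chkName 59774 := upto_add uN_59389 rfl cN_59389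
theorem uN_60163 : Upto T.chkName 60163 := upto_add uN_59774 rfl cN_59774
theorem uN_60561 : Upto T.chkName 60561 := upto_add uN_60163 rfl cN_60163
theorem uN_60953 : Upto T.chkName 60953 := upto_add uN_60561 rfl cN_60561
theorem uN_61351 : Upto T.chkName 61351 := upto_add uN_60953 rfl cN_60953
theorem uN_61746 : Upto T.chkName 61746 := upto_add uN_61351 rfl cN_61351
theorem uN_62141 : Upto T.chkName 62141 := upto_add uN_61746 rfl cN_61746
theorem uN_62532 : Upto T.chkName 62532 := upto_add uN_62141 rfl cN_62141
theorem uN_62926 : Upto T.chkName 62926 := upto_add uN_62532 rfl cN_62532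
theorem uN_63314 : Upto T.chkName 63314 := upto_add uN_62926 rfl cN_62926
theorem uN_63698 : Upto T.chkName 63698 := upto_add uN_63314 rfl cN_63314
theorem uN_64083 : Upto T.chkName 64083 := upto_add uN_63698 rfl cN_63698
theorem uN_64472 : Upto T.chkName 64472 := upto_add uN_64083 rfl cN_64083
theorem uN_64858 : Upto T.chkName 64858 := upto_add uN_64472 rfl cN_64472
theorem uN_65236 : Upto T.chkName 65236 := upto_add uN_64858 rfl cN_64858
theorem uN_65614 : Upto T.chkName 65614 := upto_add uN_65236 rfl cN_65236
theorem uN_65994 : Upto T.chkName 65994 := upto_add uN_65614 rfl cN_65614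
theorem uN_66371 : Upto T.chkName 66371 := upto_add uN_65994 rfl cN_65994
theorem uN_66755 : Upto T.chkName 66755 := upto_add uN_66371 rfl cN_66371
theorem uN_67138 : Upto T.chkName 67138 := upto_add uN_66755 rfl cN_66755
theorem uN_67519 : Upto T.chkName 67519 := upto_add uN_67138 rfl cN_67138
theorem uN_67903 : Upto T.chkName 67903 := upto_add uN_67519 rfl cN_67519
theorem uN_68291 : Upto T.chkName 68291 := upto_add uN_67903 rfl cN_67903
theorem uN_68671 : Upto T.chkName 68671 := upto_add uN_68291 rfl cN_68291
theorem uN_69053 : Upto T.chkName 69053 := upto_add uN_68671 rfl cN_68671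
theorem uN_69435 : Upto T.chkName 69435 := upto_add uN_69053 rfl cN_69053
theorem uN_69813 : Upto T.chkName 69813 := upto_add uN_69435 rfl cN_69435
theorem uN_70188 : Upto T.chkName 70188 := upto_add uN_69813 rfl cN_69813
theorem uN_70564 : Upto T.chkName 70564 := upto_add uN_70188 rfl cN_70188
theorem uN_70936 : Upto T.chkName 70936 := upto_add uN_70564 rfl cN_70564
theorem uN_71305 : Upto T.chkName 71305 := upto_add uN_70936 rfl cN_70936
theorem uN_71683 : Upto T.chkName 71683 := upto_add uN_71305 rfl cN_71305
theorem uN_72063 : Upto T.chkName 72063 := upto_add uN_71683 rfl cN_71683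
theorem uN_72434 : Upto T.chkName 72434 := upto_add uN_72063 rfl cN_72063
theorem uN_72824 : Upto T.chkName 72824 := upto_add uN_72434 rfl cN_72434
theorem uN_73212 : Upto T.chkName 73212 := upto_add uN_72824 rfl cN_72824
theorem uN_73600 : Upto T.chkName 73600 := upto_add uN_73212 rfl cN_73212
theorem uN_73981 : Upto T.chkName 73981 := upto_add uN_73600 rfl cN_73600
theorem uN_74370 : Upto T.chkName 74370 := upto_add uN_73981 rfl cN_73981
theorem uN_74771 : Upto T.chkName 74771 := upto_add uN_74370 rfl cN_74370
theorem uN_75163 : Upto T.chkName 75163 := upto_add uN_74771 rfl cN_74771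
theorem uN_75562 : Upto T.chkName 75562 := upto_add uN_75163 rfl cN_75163
theorem uN_75958 : Upto T.chkName 75958 := upto_add uN_75562 rfl cN_75562
theorem uN_76354 : Upto T.chkName 76354 := upto_add uN_75958 rfl cN_75958
theorem uN_76748 : Upto T.chkName 76748 := upto_add uN_76354 rfl cN_76354
theorem uN_77145 : Upto T.chkName 77145 := upto_add uN_76748 rfl cN_76748
theorem uN_77534 : Upto T.chkName 77534 := upto_add uN_77145 rfl cN_77145
theorem uN_77926 : Upto T.chkName 77926 := upto_add uN_77534 rfl cN_77534
theorem uN_78317 : Upto T.chkName 78317 := upto_add uN_77926 rfl cN_77926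
theorem uN_78703 : Upto T.chkName 78703 := upto_add uN_78317 rfl cN_78317
theorem uN_79084 : Upto T.chkName 79084 := upto_add uN_78703 rfl cN_78703
theorem uN_79479 : Upto T.chkName 79479 := upto_add uN_79084 rfl cN_79084
theorem uN_79869 : Upto T.chkName 79869 := upto_add uN_79479 rfl cN_79479
theorem uN_80249 : Upto T.chkName 80249 := upto_add uN_79869 rfl cN_79869
theorem uN_80622 : Upto T.chkName 80622 := upto_add uN_80249 rfl cN_80249
theorem uN_81001 : Upto T.chkName 81001 := upto_add uN_80622 rfl cN_80622
theorem uN_81382 : Upto T.chkName 81382 := upto_add uN_81001 rfl cN_81001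
theorem uN_81759 : Upto T.chkName 81759 := upto_add uN_81382 rfl cN_81382
theorem uN_82146 : Upto T.chkName 82146 := upto_add uN_81759 rfl cN_81759
theorem uN_82528 : Upto T.chkName 82528 := upto_add uN_82146 rfl cN_82146
theorem uN_82913 : Upto T.chkName 82913 := upto_add uN_82528 rfl cN_82528
theorem uN_83296 : Upto T.chkName 83296 := upto_add uN_82913 rfl cN_82913
theorem uN_83681 : Upto T.chkName 83681 := upto_add uN_83296 rfl cN_83296
theorem uN_84071 : Upto T.chkName 84071 := upto_add uN_83681 rfl cN_83681
theorem uN_84454 : Upto T.chkName 84454 := upto_add uN_84071 rfl cN_84071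
theorem uN_84835 : Upto T.chkName 84835 := upto_add uN_84454 rfl cN_84454
theorem uN_85214 : Upto T.chkName 85214 := upto_add uN_84835 rfl cN_84835
theorem uN_85596 : Upto T.chkName 85596 := upto_add uN_85214 rfl cN_85214
theorem uN_85976 : Upto T.chkName 85976 := upto_add uN_85596 rfl cN_85596
theorem uN_86352 : Upto T.chkName 86352 := upto_add uN_85976 rfl cN_85976
theorem uN_86724 : Upto T.chkName 86724 := upto_add uN_86352 rfl cN_86352
theorem uN_87099 : Upto T.chkName 87099 := upto_add uN_86724 rfl cN_86724
theorem uN_87468 : Upto T.chkName 87468 := upto_add uN_87099 rfl cN_87099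
theorem uN_87840 : Upto T.chkName 87840 := upto_add uN_87468 rfl cN_87468
theorem uN_88221 : Upto T.chkName 88221 := upto_add uN_87840 rfl cN_87840
theorem uN_88592 : Upto T.chkName 88592 := upto_add uN_88221 rfl cN_88221
theorem uN_88979 : Upto T.chkName 88979 := upto_add uN_88592 rfl cN_88592
theorem uN_89369 : Upto T.chkName 89369 := upto_add uN_88979 rfl cN_88979
theorem uN_89759 : Upto T.chkName 89759 := upto_add uN_89369 rfl cN_89369
theorem uN_90144 : Upto T.chkName 90144 := upto_add uN_89759 rfl cN_89759
theorem uN_90527 : Upto T.chkName 90527 := upto_add uN_90144 rfl cN_90144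
theorem uN_90927 : Upto T.chkName 90927 := upto_add uN_90527 rfl cN_90527
theorem uN_91326 : Upto T.chkName 91326 := upto_add uN_90927 rfl cN_90927
theorem uN_91719 : Upto T.chkName 91719 := upto_add uN_91326 rfl cN_91326
theorem uN_92117 : Upto T.chkName 92117 := upto_add uN_91719 rfl cN_91719
theorem uN_92518 : Upto T.chkName 92518 := upto_add uN_92117 rfl cN_92117
theorem uN_92914 : Upto T.chkName 92914 := upto_add uN_92518 rfl cN_92518
theorem uN_93309 : Upto T.chkName 93309 := upto_add uN_92914 rfl cN_92914
theorem uN_93705 : Upto T.chkName 93705 := upto_add uN_93309 rfl cN_93309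
theorem uN_94103 : Upto T.chkName 94103 := upto_add uN_93705 rfl cN_93705
theorem uN_94493 : Upto T.chkName 94493 := upto_add uN_94103 rfl cN_94103
theorem uN_94883 : Upto T.chkName 94883 := upto_add uN_94493 rfl cN_94493
theorem uN_95275 : Upto T.chkName 95275 := upto_add uN_94883 rfl cN_94883
theorem uN_95667 : Upto T.chkName 95667 := upto_add uN_95275 rfl cN_95275
theorem uN_96053 : Upto T.chkName 96053 := upto_add uN_95667 rfl cN_95667
theorem uN_96435 : Upto T.chkName 96435 := upto_add uN_96053 rfl cN_96053
theorem uN_96834 : Upto T.chkName 96834 := upto_add uN_96435 rfl cN_96435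
theorem uN_97223 : Upto T.chkName 97223 := upto_add uN_96834 rfl cN_96834
theorem uN_97599 : Upto T.chkName 97599 := upto_add uN_97223 rfl cN_97223
theorem uN_97975 : Upto T.chkName 97975 := upto_add uN_97599 rfl cN_97599
theorem uN_98354 : Upto T.chkName 98354 := upto_add uN_97975 rfl cN_97975
theorem uN_98734 : Upto T.chkName 98734 := upto_add uN_98354 rfl cN_98354
theorem uN_99113 : Upto T.chkName 99113 := upto_add uN_98734 rfl cN_98734
theorem uN_99501 : Upto T.chkName 99501 := upto_add uN_99113 rfl cN_99113
theorem uN_99882 : Upto T.chkName 99882 := upto_add uN_99501 rfl cN_99501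
theorem uN_100266 : Upto T.chkName 100266 := upto_add uN_99882 rfl cN_99882
theorem uN_100649 : Upto T.chkName 100649 := upto_add uN_100266 rfl cN_100266
theorem uN_101035 : Upto T.chkName 101035 := upto_add uN_100649 rfl cN_100649
theorem uN_101419 : Upto T.chkName 101419 := upto_add uN_101035 rfl cN_101035
theorem uN_101809 : Upto T.chkName 101809 := upto_add uN_101419 rfl cN_101419
theorem uN_102192 : Upto T.chkName 102192 := upto_add uN_101809 rfl cN_101809
theorem uN_102574 : Upto T.chkName 102574 := upto_add uN_102192 rfl cN_102192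
theorem uN_102953 : Upto T.chkName 102953 := upto_add uN_102574 rfl cN_102574
theorem uN_103331 : Upto T.chkName 103331 := upto_add uN_102953 rfl cN_102953
theorem uN_103708 : Upto T.chkName 103708 := upto_add uN_103331 rfl cN_103331
theorem uN_104090 : Upto T.chkName 104090 := upto_add uN_103708 rfl cN_103708
theorem uN_104465 : Upto T.chkName 104465 := upto_add uN_104090 rfl cN_104090
theorem uN_104840 : Upto T.chkName 104840 := upto_add uN_104465 rfl cN_104465
theorem uN_105210 : Upto T.chkName 105210 := upto_add uN_104840 rfl cN_104840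
theorem uN_105581 : Upto T.chkName 105581 := upto_add uN_105210 rfl cN_105210
theorem uN_105950 : Upto T.chkName 105950 := upto_add uN_105581 rfl cN_105581
theorem uN_106330 : Upto T.chkName 106330 := upto_add uN_105950 rfl cN_105950
theorem uN_106704 : Upto T.chkName 106704 := upto_add uN_106330 rfl cN_106330
theorem uN_107090 : Upto T.chkName 107090 := upto_add uN_106704 rfl cN_106704
theorem uN_107483 : Upto T.chkName 107483 := upto_add uN_107090 rfl cN_107090
theorem uN_107874 : Upto T.chkName 107874 := upto_add uN_107483 rfl cN_107483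
theorem uN_108262 : Upto T.chkName 108262 := upto_add uN_107874 rfl cN_107874
theorem uN_108644 : Upto T.chkName 108644 := upto_add uN_108262 rfl cN_108262
theorem uN_109043 : Upto T.chkName 109043 := upto_add uN_108644 rfl cN_108644
theorem uN_109444 : Upto T.chkName 109444 := upto_add uN_109043 rfl cN_109043
theorem uN_109843 : Upto T.chkName 109843 := upto_add uN_109444 rfl cN_109444
theorem uN_110237 : Upto T.chkName 110237 := upto_add uN_109843 rfl cN_109843
theorem uN_110643 : Upto T.chkName 110643 := upto_add uN_110237 rfl cN_110237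
theorem uN_111042 : Upto T.chkName 111042 := upto_add uN_110643 rfl cN_110643
theorem uN_111437 : Upto T.chkName 111437 := upto_add uN_111042 rfl cN_111042
theorem uN_111833 : Upto T.chkName 111833 := upto_add uN_111437 rfl cN_111437
theorem uN_112232 : Upto T.chkName 112232 := upto_add uN_111833 rfl cN_111833
theorem uN_112628 : Upto T.chkName 112628 := upto_add uN_112232 rfl cN_112232
theorem uN_113019 : Upto T.chkName 113019 := upto_add uN_112628 rfl cN_112628
theorem uN_113408 : Upto T.chkName 113408 := upto_add uN_113019 rfl cN_113019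
theorem uN_113796 : Upto T.chkName 113796 := upto_add uN_113408 rfl cN_113408
theorem uN_114190 : Upto T.chkName 114190 := upto_add uN_113796 rfl cN_113796
theorem uN_114581 : Upto T.chkName 114581 := upto_add uN_114190 rfl cN_114190
theorem uN_114972 : Upto T.chkName 114972 := upto_add uN_114581 rfl cN_114581
theorem uN_115358 : Upto T.chkName 115358 := upto_add uN_114972 rfl cN_114972
theorem uN_115755 : Upto T.chkName 115755 := upto_add uN_115358 rfl cN_115358
theorem uN_116146 : Upto T.chkName 116146 := upto_add uN_115755 rfl cN_115755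
theorem uN_116520 : Upto T.chkName 116520 := upto_add uN_116146 rfl cN_116146
theorem uN_116898 : Upto T.chkName 116898 := upto_add uN_116520 rfl cN_116520
theorem uN_117276 : Upto T.chkName 117276 := upto_add uN_116898 rfl cN_116898
theorem uN_117655 : Upto T.chkName 117655 := upto_add uN_117276 rfl cN_117276
theorem uN_118037 : Upto T.chkName 118037 := upto_add uN_117655 rfl cN_117655
theorem uN_118427 : Upto T.chkName 118427 := upto_add uN_118037 rfl cN_118037
theorem uN_118809 : Upto T.chkName 118809 := upto_add uN_118427 rfl cN_118427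
theorem uN_119190 : Upto T.chkName 119190 := upto_add uN_118809 rfl cN_118809
theorem uN_119577 : Upto T.chkName 119577 := upto_add uN_119190 rfl cN_119190
theorem uN_119961 : Upto T.chkName 119961 := upto_add uN_119577 rfl cN_119577
theorem uN_120346 : Upto T.chkName 120346 := upto_add uN_119961 rfl cN_119961
theorem uN_120733 : Upto T.chkName 120733 := upto_add uN_120346 rfl cN_120346
theorem uN_121115 : Upto T.chkName 121115 := upto_add uN_120733 rfl cN_120733
theorem uN_121503 : Upto T.chkName 121503 := upto_add uN_121115 rfl cN_121115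
theorem uN_121884 : Upto T.chkName 121884 := upto_add uN_121503 rfl cN_121503
theorem uN_122266 : Upto T.chkName 122266 := upto_add uN_121884 rfl cN_121884
theorem uN_122643 : Upto T.chkName 122643 := upto_add uN_122266 rfl cN_122266
theorem uN_123024 : Upto T.chkName 123024 := upto_add uN_122643 rfl cN_122643
theorem uN_123400 : Upto T.chkName 123400 := upto_add uN_123024 rfl cN_123024
theorem uN_123778 : Upto T.chkName 123778 := upto_add uN_123400 rfl cN_123400
theorem uN_124159 : Upto T.chkName 124159 := upto_add uN_123778 rfl cN_123778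
theorem uN_124534 : Upto T.chkName 124534 := upto_add uN_124159 rfl cN_124159
theorem uN_124908 : Upto T.chkName 124908 := upto_add uN_124534 rfl cN_124534
theorem uN_125278 : Upto T.chkName 125278 := upto_add uN_124908 rfl cN_124908
theorem uN_125647 : Upto T.chkName 125647 := upto_add uN_125278 rfl cN_125278
theorem uN_126019 : Upto T.chkName 126019 := upto_add uN_125647 rfl cN_125647
theorem uN_126400 : Upto T.chkName 126400 := upto_add uN_126019 rfl cN_126019
theorem uN_126779 : Upto T.chkName 126779 := upto_add uN_126400 rfl cN_126400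
theorem uN_127176 : Upto T.chkName 127176 := upto_add uN_126779 rfl cN_126779
theorem uN_127571 : Upto T.chkName 127571 := upto_add uN_127176 rfl cN_127176
theorem uN_127957 : Upto T.chkName 127957 := upto_add uN_127571 rfl cN_127571
theorem uN_128344 : Upto T.chkName 128344 := upto_add uN_127957 rfl cN_127957
theorem uN_128746 : Upto T.chkName 128746 := upto_add uN_128344 rfl cN_128344
theorem uN_129149 : Upto T.chkName 129149 := upto_add uN_128746 rfl cN_128746
theorem uN_129547 : Upto T.chkName 129547 := upto_add uN_129149 rfl cN_129149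
theorem uN_129948 : Upto T.chkName 129948 := upto_add uN_129547 rfl cN_129547
theorem uN_130349 : Upto T.chkName 130349 := upto_add uN_129948 rfl cN_129948
theorem uN_130754 : Upto T.chkName 130754 := upto_add uN_130349 rfl cN_130349
theorem uN_131153 : Upto T.chkName 131153 := upto_add uN_130754 rfl cN_130754
theorem uN_131549 : Upto T.chkName 131549 := upto_add uN_131153 rfl cN_131153
theorem uN_131947 : Upto T.chkName 131947 := upto_add uN_131549 rfl cN_131549
theorem uN_132346 : Upto T.chkName 132346 := upto_add uN_131947 rfl cN_131947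
theorem uN_132741 : Upto T.chkName 132741 := upto_add uN_132346 rfl cN_132346
theorem uN_133136 : Upto T.chkName 133136 := upto_add uN_132741 rfl cN_132741
theorem uN_133528 : Upto T.chkName 133528 := upto_add uN_133136 rfl cN_133136
theorem uN_133918 : Upto T.chkName 133918 := upto_add uN_133528 rfl cN_133528
theorem uN_134306 : Upto T.chkName 134306 := upto_add uN_133918 rfl cN_133918
theorem uN_134702 : Upto T.chkName 134702 := upto_add uN_134306 rfl cN_134306
theorem uN_135092 : Upto T.chkName 135092 := upto_add uN_134702 rfl cN_134702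
theorem uN_135485 : Upto T.chkName 135485 := upto_add uN_135092 rfl cN_135092
theorem uN_135871 : Upto T.chkName 135871 := upto_add uN_135485 rfl cN_135485
theorem uN_136272 : Upto T.chkName 136272 := upto_add uN_135871 rfl cN_135871
theorem uN_136657 : Upto T.chkName 136657 := upto_add uN_136272 rfl cN_136272
theorem uN_137032 : Upto T.chkName 137032 := upto_add uN_136657 rfl cN_136657
theorem uN_137413 : Upto T.chkName 137413 := upto_add uN_137032 rfl cN_137032
theorem uN_137788 : Upto T.chkName 137788 := upto_add uN_137413 rfl cN_137413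
theorem uN_138169 : Upto T.chkName 138169 := upto_add uN_137788 rfl cN_137788
theorem uN_138553 : Upto T.chkName 138553 := upto_add uN_138169 rfl cN_138169
theorem uN_138944 : Upto T.chkName 138944 := upto_add uN_138553 rfl cN_138553
theorem uN_139329 : Upto T.chkName 139329 := upto_add uN_138944 rfl cN_138944
theorem uN_139711 : Upto T.chkName 139711 := upto_add uN_139329 rfl cN_139329
theorem uN_140095 : Upto T.chkName 140095 := upto_add uN_139711 rfl cN_139711
theorem uN_140481 : Upto T.chkName 140481 := upto_add uN_140095 rfl cN_140095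
theorem uN_140864 : Upto T.chkName 140864 := upto_add uN_140481 rfl cN_140481
theorem uN_141252 : Upto T.chkName 141252 := upto_add uN_140864 rfl cN_140864
theorem uN_141639 : Upto T.chkName 141639 := upto_add uN_141252 rfl cN_141252
theorem uN_142022 : Upto T.chkName 142022 := upto_add uN_141639 rfl cN_141639
theorem uN_142412 : Upto T.chkName 142412 := upto_add uN_142022 rfl cN_142022
theorem uN_142795 : Upto T.chkName 142795 := upto_add uN_142412 rfl cN_142412
theorem uN_143174 : Upto T.chkName 143174 := upto_add uN_142795 rfl cN_142795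
theorem uN_143554 : Upto T.chkName 143554 := upto_add uN_143174 rfl cN_143174
theorem uN_143929 : Upto T.chkName 143929 := upto_add uN_143554 rfl cN_143554
theorem uN_144310 : Upto T.chkName 144310 := upto_add uN_143929 rfl cN_143929
theorem uN_144686 : Upto T.chkName 144686 := upto_add uN_144310 rfl cN_144310
theorem uN_145063 : Upto T.chkName 145063 := upto_add uN_144686 rfl cN_144686
theorem uN_145441 : Upto T.chkName 145441 := upto_add uN_145063 rfl cN_145063
theorem uN_145818 : Upto T.chkName 145818 := upto_add uN_145441 rfl cN_145441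
theorem uN_146191 : Upto T.chkName 146191 := upto_add uN_145818 rfl cN_145818
theorem uN_146562 : Upto T.chkName 146562 := upto_add uN_146191 rfl cN_146191
theorem uN_146930 : Upto T.chkName 146930 := upto_add uN_146562 rfl cN_146562
theorem uN_147298 : Upto T.chkName 147298 := upto_add uN_146930 rfl cN_146930
theorem uN_147679 : Upto T.chkName 147679 := upto_add uN_147298 rfl cN_147298
theorem uN_148053 : Upto T.chkName 148053 := upto_add uN_147679 rfl cN_147679
theorem uN_148453 : Upto T.chkName 148453 := upto_add uN_148053 rfl cN_148053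
theorem uN_148847 : Upto T.chkName 148847 := upto_add uN_148453 rfl cN_148453
theorem uN_149236 : Upto T.chkName 149236 := upto_add uN_148847 rfl cN_148847
theorem uN_149624 : Upto T.chkName 149624 := upto_add uN_149236 rfl cN_149236
theorem uN_150029 : Upto T.chkName 150029 := upto_add uN_149624 rfl cN_149624
theorem uN_150433 : Upto T.chkName 150433 := upto_add uN_150029 rfl cN_150029
theorem uN_150832 : Upto T.chkName 150832 := upto_add uN_150433 rfl cN_150433
theorem uN_151234 : Upto T.chkName 151234 := upto_add uN_150832 rfl cN_150832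
theorem uN_151637 : Upto T.chkName 151637 := upto_add uN_151234 rfl cN_151234
theorem uN_152044 : Upto T.chkName 152044 := upto_add uN_151637 rfl cN_151637
theorem uN_152447 : Upto T.chkName 152447 := upto_add uN_152044 rfl cN_152044
theorem uN_152844 : Upto T.chkName 152844 := upto_add uN_152447 rfl cN_152447
theorem uN_153241 : Upto T.chkName 153241 := upto_add uN_152844 rfl cN_152844
theorem uN_153638 : Upto T.chkName 153638 := upto_add uN_153241 rfl cN_153241
theorem uN_154039 : Upto T.chkName 154039 := upto_add uN_153638 rfl cN_153638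
theorem uN_154435 : Upto T.chkName 154435 := upto_add uN_154039 rfl cN_154039
theorem uN_154830 : Upto T.chkName 154830 := upto_add uN_154435 rfl cN_154435
theorem uN_155223 : Upto T.chkName 155223 := upto_add uN_154830 rfl cN_154830
theorem uN_155612 : Upto T.chkName 155612 := upto_add uN_155223 rfl cN_155223
theorem uN_156004 : Upto T.chkName 156004 := upto_add uN_155612 rfl cN_155612
theorem uN_156395 : Upto T.chkName 156395 := upto_add uN_156004 rfl cN_156004
theorem uN_156787 : Upto T.chkName 156787 := upto_add uN_156395 rfl cN_156395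
theorem uN_157181 : Upto T.chkName 157181 := upto_add uN_156787 rfl cN_156787
theorem uN_157568 : Upto T.chkName 157568 := upto_add uN_157181 rfl cN_157181
theorem uN_157960 : Upto T.chkName 157960 := upto_add uN_157568 rfl cN_157568
theorem uN_158359 : Upto T.chkName 158359 := upto_add uN_157960 rfl cN_157960
theorem uN_158735 : Upto T.chkName 158735 := upto_add uN_158359 rfl cN_158359
theorem uN_159111 : Upto T.chkName 159111 := upto_add uN_158735 rfl cN_158735
theorem uN_159494 : Upto T.chkName 159494 := upto_add uN_159111 rfl cN_159111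
theorem uN_159872 : Upto T.chkName 159872 := upto_add uN_159494 rfl cN_159494
theorem uN_160252 : Upto T.chkName 160252 := upto_add uN_159872 rfl cN_159872
theorem uN_160640 : Upto T.chkName 160640 := upto_add uN_160252 rfl cN_160252
theorem uN_161031 : Upto T.chkName 161031 := upto_add uN_160640 rfl cN_160640
theorem uN_161416 : Upto T.chkName 161416 := upto_add uN_161031 rfl cN_161031
theorem uN_161799 : Upto T.chkName 161799 := upto_add uN_161416 rfl cN_161416
theorem uN_162181 : Upto T.chkName 162181 := upto_add uN_161799 rfl cN_161799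
theorem uN_162569 : Upto T.chkName 162569 := upto_add uN_162181 rfl cN_162181
theorem uN_162950 : Upto T.chkName 162950 := upto_add uN_162569 rfl cN_162569
theorem uN_163333 : Upto T.chkName 163333 := upto_add uN_162950 rfl cN_162950
theorem uN_163722 : Upto T.chkName 163722 := upto_add uN_163333 rfl cN_163333
theorem uN_164108 : Upto T.chkName 164108 := upto_add uN_163722 rfl cN_163722
theorem uN_164491 : Upto T.chkName 164491 := upto_add uN_164108 rfl cN_164108
theorem uN_164881 : Upto T.chkName 164881 := upto_add uN_164491 rfl cN_164491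
theorem uN_165262 : Upto T.chkName 165262 := upto_add uN_164881 rfl cN_164881
theorem uN_165638 : Upto T.chkName 165638 := upto_add uN_165262 rfl cN_165262
theorem uN_166022 : Upto T.chkName 166022 := upto_add uN_165638 rfl cN_165638
theorem uN_166399 : Upto T.chkName 166399 := upto_add uN_166022 rfl cN_166022
theorem uN_166777 : Upto T.chkName 166777 := upto_add uN_166399 rfl cN_166399
theorem uN_167155 : Upto T.chkName 167155 := upto_add uN_166777 rfl cN_166777
theorem uN_167530 : Upto T.chkName 167530 := upto_add uN_167155 rfl cN_167155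
theorem uN_167905 : Upto T.chkName 167905 := upto_add uN_167530 rfl cN_167530
theorem uN_168280 : Upto T.chkName 168280 := upto_add uN_167905 rfl cN_167905
theorem uN_168654 : Upto T.chkName 168654 := upto_add uN_168280 rfl cN_168280
theorem uN_169026 : Upto T.chkName 169026 := upto_add uN_168654 rfl cN_168654
theorem uN_169396 : Upto T.chkName 169396 := upto_add uN_169026 rfl cN_169026
theorem uN_169765 : Upto T.chkName 169765 := upto_add uN_169396 rfl cN_169396
theorem uN_170132 : Upto T.chkName 170132 := upto_add uN_169765 rfl cN_169765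
theorem uN_170510 : Upto T.chkName 170510 := upto_add uN_170132 rfl cN_170132
theorem uN_170881 : Upto T.chkName 170881 := upto_add uN_170510 rfl cN_170510
theorem uN_171283 : Upto T.chkName 171283 := upto_add uN_170881 rfl cN_170881
theorem uN_171678 : Upto T.chkName 171678 := upto_add uN_171283 rfl cN_171283
theorem uN_172068 : Upto T.chkName 172068 := upto_add uN_171678 rfl cN_171678
theorem uN_172464 : Upto T.chkName 172464 := upto_add uN_172068 rfl cN_172068
theorem uN_172871 : Upto T.chkName 172871 := upto_add uN_172464 rfl cN_172464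
theorem uN_173276 : Upto T.chkName 173276 := upto_add uN_172871 rfl cN_172871
theorem uN_173677 : Upto T.chkName 173677 := upto_add uN_173276 rfl cN_173276
theorem uN_174080 : Upto T.chkName 174080 := upto_add uN_173677 rfl cN_173677
theorem uN_174481 : Upto T.chkName 174481 := upto_add uN_174080 rfl cN_174080
theorem uN_174891 : Upto T.chkName 174891 := upto_add uN_174481 rfl cN_174481
theorem uN_175295 : Upto T.chkName 175295 := upto_add uN_174891 rfl cN_174891
theorem uN_175695 : Upto T.chkName 175695 := upto_add uN_175295 rfl cN_175295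
theorem uN_176090 : Upto T.chkName 176090 := upto_add uN_175695 rfl cN_175695
theorem uN_176491 : Upto T.chkName 176491 := upto_add uN_176090 rfl cN_176090
theorem uN_176887 : Upto T.chkName 176887 := upto_add uN_176491 rfl cN_176491
theorem uN_177288 : Upto T.chkName 177288 := upto_add uN_176887 rfl cN_176887
theorem uN_177684 : Upto T.chkName 177684 := upto_add uN_177288 rfl cN_177288
theorem uN_178078 : Upto T.chkName 178078 := upto_add uN_177684 rfl cN_177684
theorem uN_178471 : Upto T.chkName 178471 := upto_add uN_178078 rfl cN_178078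
theorem uN_178861 : Upto T.chkName 178861 := upto_add uN_178471 rfl cN_178471
theorem uN_179252 : Upto T.chkName 179252 := upto_add uN_178861 rfl cN_178861
theorem uN_179642 : Upto T.chkName 179642 := upto_add uN_179252 rfl cN_179252
theorem uN_180037 : Upto T.chkName 180037 := upto_add uN_179642 rfl cN_179642
theorem uN_180425 : Upto T.chkName 180425 := upto_add uN_180037 rfl cN_180037
theorem uN_180817 : Upto T.chkName 180817 := upto_add uN_180425 rfl cN_180425
theorem uN_181209 : Upto T.chkName 181209 := upto_add uN_180817 rfl cN_180817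
theorem uN_181608 : Upto T.chkName 181608 := upto_add uN_181209 rfl cN_181209
theorem uN_181991 : Upto T.chkName 181991 := upto_add uN_181608 rfl cN_181608
theorem uN_182369 : Upto T.chkName 182369 := upto_add uN_181991 rfl cN_181991
theorem uN_182750 : Upto T.chkName 182750 := upto_add uN_182369 rfl cN_182369
theorem uN_183128 : Upto T.chkName 183128 := upto_add uN_182750 rfl cN_182750
theorem uN_183507 : Upto T.chkName 183507 := upto_add uN_183128 rfl cN_183128
theorem uN_183887 : Upto T.chkName 183887 := upto_add uN_183507 rfl cN_183507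
theorem uN_184279 : Upto T.chkName 184279 := upto_add uN_183887 rfl cN_183887
theorem uN_184670 : Upto T.chkName 184670 := upto_add uN_184279 rfl cN_184279
theorem uN_185053 : Upto T.chkName 185053 := upto_add uN_184670 rfl cN_184670
theorem uN_185435 : Upto T.chkName 185435 := upto_add uN_185053 rfl cN_185053
theorem uN_185820 : Upto T.chkName 185820 := upto_add uN_185435 rfl cN_185435
theorem uN_186203 : Upto T.chkName 186203 := upto_add uN_185820 rfl cN_185820
theorem uN_186588 : Upto T.chkName 186588 := upto_add uN_186203 rfl cN_186203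
theorem uN_186970 : Upto T.chkName 186970 := upto_add uN_186588 rfl cN_186588
theorem uN_187355 : Upto T.chkName 187355 := upto_add uN_186970 rfl cN_186970
theorem uN_187745 : Upto T.chkName 187745 := upto_add uN_187355 rfl cN_187355
theorem uN_188129 : Upto T.chkName 188129 := upto_add uN_187745 rfl cN_187745
theorem uN_188511 : Upto T.chkName 188511 := upto_add uN_188129 rfl cN_188129
theorem uN_188900 : Upto T.chkName 188900 := upto_add uN_188511 rfl cN_188511
theorem uN_189278 : Upto T.chkName 189278 := upto_add uN_188900 rfl cN_188900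
theorem uN_189652 : Upto T.chkName 189652 := upto_add uN_189278 rfl cN_189278
theorem uN_190037 : Upto T.chkName 190037 := upto_add uN_189652 rfl cN_189652
theorem uN_190415 : Upto T.chkName 190415 := upto_add uN_190037 rfl cN_190037
theorem uN_190791 : Upto T.chkName 190791 := upto_add uN_190415 rfl cN_190415
theorem uN_191171 : Upto T.chkName 191171 := upto_add uN_190791 rfl cN_190791
theorem uN_191545 : Upto T.chkName 191545 := upto_add uN_191171 rfl cN_191171
theorem uN_191918 : Upto T.chkName 191918 := upto_add uN_191545 rfl cN_191545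
theorem uN_192291 : Upto T.chkName 192291 := upto_add uN_191918 rfl cN_191918
theorem uN_192664 : Upto T.chkName 192664 := upto_add uN_192291 rfl cN_192291
theorem uN_193036 : Upto T.chkName 193036 := upto_add uN_192664 rfl cN_192664
theorem uN_193407 : Upto T.chkName 193407 := upto_add uN_193036 rfl cN_193036
theorem uN_193777 : Upto T.chkName 193777 := upto_add uN_193407 rfl cN_193407
theorem uN_194145 : Upto T.chkName 194145 := upto_add uN_193777 rfl cN_193777
theorem uN_194510 : Upto T.chkName 194510 := upto_add uN_194145 rfl cN_194145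
theorem uN_194889 : Upto T.chkName 194889 := upto_add uN_194510 rfl cN_194510
theorem uN_195260 : Upto T.chkName 195260 := upto_add uN_194889 rfl cN_194889
theorem uN_195663 : Upto T.chkName 195663 := upto_add uN_195260 rfl cN_195260
theorem uN_196055 : Upto T.chkName 196055 := upto_add uN_195663 rfl cN_195663
theorem uN_196445 : Upto T.chkName 196445 := upto_add uN_196055 rfl cN_196055
theorem uN_196855 : Upto T.chkName 196855 := upto_add uN_196445 rfl cN_196445
theorem uN_197260 : Upto T.chkName 197260 := upto_add uN_196855 rfl cN_196855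
theorem uN_197667 : Upto T.chkName 197667 := upto_add uN_197260 rfl cN_197260
theorem uN_198068 : Upto T.chkName 198068 := upto_add uN_197667 rfl cN_197667
theorem uN_198472 : Upto T.chkName 198472 := upto_add uN_198068 rfl cN_198068
theorem uN_198875 : Upto T.chkName 198875 := upto_add uN_198472 rfl cN_198472
theorem uN_199283 : Upto T.chkName 199283 := upto_add uN_198875 rfl cN_198875
theorem uN_199688 : Upto T.chkName 199688 := upto_add uN_199283 rfl cN_199283
theorem uN_200090 : Upto T.chkName 200090 := upto_add uN_199688 rfl cN_199688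
theorem uN_200488 : Upto T.chkName 200488 := upto_add uN_200090 rfl cN_200090
theorem uN_200884 : Upto T.chkName 200884 := upto_add uN_200488 rfl cN_200488
theorem uN_201283 : Upto T.chkName 201283 := upto_add uN_200884 rfl cN_200884
theorem uN_201678 : Upto T.chkName 201678 := upto_add uN_201283 rfl cN_201283
theorem uN_202080 : Upto T.chkName 202080 := upto_add uN_201678 rfl cN_201678
theorem uN_202476 : Upto T.chkName 202476 := upto_add uN_202080 rfl cN_202080
theorem uN_202864 : Upto T.chkName 202864 := upto_add uN_202476 rfl cN_202476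
theorem uN_203257 : Upto T.chkName 203257 := upto_add uN_202864 rfl cN_202864
theorem uN_203648 : Upto T.chkName 203648 := upto_add uN_203257 rfl cN_203257
theorem uN_204038 : Upto T.chkName 204038 := upto_add uN_203648 rfl cN_203648
theorem uN_204428 : Upto T.chkName 204428 := upto_add uN_204038 rfl cN_204038
theorem uN_204823 : Upto T.chkName 204823 := upto_add uN_204428 rfl cN_204428
theorem uN_205211 : Upto T.chkName 205211 := upto_add uN_204823 rfl cN_204823
theorem uN_205606 : Upto T.chkName 205606 := upto_add uN_205211 rfl cN_205211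
theorem uN_205998 : Upto T.chkName 205998 := upto_add uN_205606 rfl cN_205606
theorem uN_206397 : Upto T.chkName 206397 := upto_add uN_205998 rfl cN_205998
theorem uN_206783 : Upto T.chkName 206783 := upto_add uN_206397 rfl cN_206397
theorem uN_207160 : Upto T.chkName 207160 := upto_add uN_206783 rfl cN_206783
theorem uN_207539 : Upto T.chkName 207539 := upto_add uN_207160 rfl cN_207160
theorem uN_207917 : Upto T.chkName 207917 := upto_add uN_207539 rfl cN_207539
theorem uN_208295 : Upto T.chkName 208295 := upto_add uN_207917 rfl cN_207917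
theorem uN_208672 : Upto T.chkName 208672 := upto_add uN_208295 rfl cN_208295
theorem uN_209060 : Upto T.chkName 209060 := upto_add uN_208672 rfl cN_208672
theorem uN_209450 : Upto T.chkName 209450 := upto_add uN_209060 rfl cN_209060
theorem uN_209839 : Upto T.chkName 209839 := upto_add uN_209450 rfl cN_209450
theorem uN_210220 : Upto T.chkName 210220 := upto_add uN_209839 rfl cN_209839
theorem uN_210601 : Upto T.chkName 210601 := upto_add uN_210220 rfl cN_210220
theorem uN_210984 : Upto T.chkName 210984 := upto_add uN_210601 rfl cN_210601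
theorem uN_211367 : Upto T.chkName 211367 := upto_add uN_210984 rfl cN_210984
theorem uN_211751 : Upto T.chkName 211751 := upto_add uN_211367 rfl cN_211367
theorem uN_212132 : Upto T.chkName 212132 := upto_add uN_211751 rfl cN_211751
theorem uN_212513 : Upto T.chkName 212513 := upto_add uN_212132 rfl cN_212132
theorem uN_212902 : Upto T.chkName 212902 := upto_add uN_212513 rfl cN_212513
theorem uN_213288 : Upto T.chkName 213288 := upto_add uN_212902 rfl cN_212902
theorem uN_213667 : Upto T.chkName 213667 := upto_add uN_213288 rfl cN_213288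
theorem uN_214052 : Upto T.chkName 214052 := upto_add uN_213667 rfl cN_213667
theorem uN_214429 : Upto T.chkName 214429 := upto_add uN_214052 rfl cN_214052
theorem uN_214803 : Upto T.chkName 214803 := upto_add uN_214429 rfl cN_214429
theorem uN_215179 : Upto T.chkName 215179 := upto_add uN_214803 rfl cN_214803
theorem uN_215562 : Upto T.chkName 215562 := upto_add uN_215179 rfl cN_215179
theorem uN_215938 : Upto T.chkName 215938 := upto_add uN_215562 rfl cN_215562
theorem uN_216314 : Upto T.chkName 216314 := upto_add uN_215938 rfl cN_215938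
theorem uN_216690 : Upto T.chkName 216690 := upto_add uN_216314 rfl cN_216314
theorem uN_217062 : Upto T.chkName 217062 := upto_add uN_216690 rfl cN_216690
theorem uN_217433 : Upto T.chkName 217433 := upto_add uN_217062 rfl cN_217062
theorem uN_217803 : Upto T.chkName 217803 := upto_add uN_217433 rfl cN_217433
theorem uN_218174 : Upto T.chkName 218174 := upto_add uN_217803 rfl cN_217803
theorem uN_218544 : Upto T.chkName 218544 := upto_add uN_218174 rfl cN_218174
theorem uN_218912 : Upto T.chkName 218912 := upto_add uN_218544 rfl cN_218544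
theorem uN_219281 : Upto T.chkName 219281 := upto_add uN_218912 rfl cN_218912
theorem uN_219649 : Upto T.chkName 219649 := upto_add uN_219281 rfl cN_219281
theorem uN_220018 : Upto T.chkName 220018 := upto_add uN_219649 rfl cN_219649
theorem uN_220396 : Upto T.chkName 220396 := upto_add uN_220018 rfl cN_220018
theorem uN_220781 : Upto T.chkName 220781 := upto_add uN_220396 rfl cN_220396
theorem uN_221177 : Upto T.chkName 221177 := upto_add uN_220781 rfl cN_220781
theorem uN_221565 : Upto T.chkName 221565 := upto_add uN_221177 rfl cN_221177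
theorem uN_221969 : Upto T.chkName 221969 := upto_add uN_221565 rfl cN_221565
theorem uN_222376 : Upto T.chkName 222376 := upto_add uN_221969 rfl cN_221969
theorem uN_222782 : Upto T.chkName 222782 := upto_add uN_222376 rfl cN_222376
theorem uN_223186 : Upto T.chkName 223186 := upto_add uN_222782 rfl cN_222782
theorem uN_223587 : Upto T.chkName 223587 := upto_add uN_223186 rfl cN_223186
theorem uN_223989 : Upto T.chkName 223989 := upto_add uN_223587 rfl cN_223587
theorem uN_224394 : Upto T.chkName 224394 := upto_add uN_223989 rfl cN_223989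
theorem uN_224800 : Upto T.chkName 224800 := upto_add uN_224394 rfl cN_224394
theorem uN_225207 : Upto T.chkName 225207 := upto_add uN_224800 rfl cN_224800
theorem uN_225609 : Upto T.chkName 225609 := upto_add uN_225207 rfl cN_225207
theorem uN_226006 : Upto T.chkName 226006 := upto_add uN_225609 rfl cN_225609
theorem uN_226401 : Upto T.chkName 226401 := upto_add uN_226006 rfl cN_226006
theorem uN_226799 : Upto T.chkName 226799 := upto_add uN_226401 rfl cN_226401
theorem uN_227194 : Upto T.chkName 227194 := upto_add uN_226799 rfl cN_226799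
theorem uN_227594 : Upto T.chkName 227594 := upto_add uN_227194 rfl cN_227194
theorem uN_227987 : Upto T.chkName 227987 := upto_add uN_227594 rfl cN_227594
theorem uN_228377 : Upto T.chkName 228377 := upto_add uN_227987 rfl cN_227987
theorem uN_228767 : Upto T.chkName 228767 := upto_add uN_228377 rfl cN_228377
theorem uN_229159 : Upto T.chkName 229159 := upto_add uN_228767 rfl cN_228767
theorem uN_229546 : Upto T.chkName 229546 := upto_add uN_229159 rfl cN_229159
theorem uN_229936 : Upto T.chkName 229936 := upto_add uN_229546 rfl cN_229546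
theorem uN_230328 : Upto T.chkName 230328 := upto_add uN_229936 rfl cN_229936
theorem uN_230716 : Upto T.chkName 230716 := upto_add uN_230328 rfl cN_230328
theorem uN_231108 : Upto T.chkName 231108 := upto_add uN_230716 rfl cN_230716
theorem uN_231500 : Upto T.chkName 231500 := upto_add uN_231108 rfl cN_231108
theorem uN_231898 : Upto T.chkName 231898 := upto_add uN_231500 rfl cN_231500
theorem uN_232291 : Upto T.chkName 232291 := upto_add uN_231898 rfl cN_231898
theorem uN_232666 : Upto T.chkName 232666 := upto_add uN_232291 rfl cN_232291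
theorem uN_233039 : Upto T.chkName 233039 := upto_add uN_232666 rfl cN_232666
theorem uN_233416 : Upto T.chkName 233416 := upto_add uN_233039 rfl cN_233039
theorem uN_233789 : Upto T.chkName 233789 := upto_add uN_233416 rfl cN_233416
theorem uN_234167 : Upto T.chkName 234167 := upto_add uN_233789 rfl cN_233789
theorem uN_234553 : Upto T.chkName 234553 := upto_add uN_234167 rfl cN_234167
theorem uN_234943 : Upto T.chkName 234943 := upto_add uN_234553 rfl cN_234553
theorem uN_235332 : Upto T.chkName 235332 := upto_add uN_234943 rfl cN_234943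
theorem uN_235711 : Upto T.chkName 235711 := upto_add uN_235332 rfl cN_235332
theorem uN_236091 : Upto T.chkName 236091 := upto_add uN_235711 rfl cN_235711
theorem uN_236471 : Upto T.chkName 236471 := upto_add uN_236091 rfl cN_236091
theorem uN_236852 : Upto T.chkName 236852 := upto_add uN_236471 rfl cN_236471
theorem uN_237229 : Upto T.chkName 237229 := upto_add uN_236852 rfl cN_236852
theorem uN_237613 : Upto T.chkName 237613 := upto_add uN_237229 rfl cN_237229
theorem uN_237993 : Upto T.chkName 237993 := upto_add uN_237613 rfl cN_237613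
theorem uN_238374 : Upto T.chkName 238374 := upto_add uN_237993 rfl cN_237993
theorem uN_238762 : Upto T.chkName 238762 := upto_add uN_238374 rfl cN_238374
theorem uN_239141 : Upto T.chkName 239141 := upto_add uN_238762 rfl cN_238762
theorem uN_239521 : Upto T.chkName 239521 := upto_add uN_239141 rfl cN_239141
theorem uN_239899 : Upto T.chkName 239899 := upto_add uN_239521 rfl cN_239521
theorem uN_240271 : Upto T.chkName 240271 := upto_add uN_239899 rfl cN_239899
theorem uN_240642 : Upto T.chkName 240642 := upto_add uN_240271 rfl cN_240271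
theorem uN_241024 : Upto T.chkName 241024 := upto_add uN_240642 rfl cN_240642
theorem uN_241401 : Upto T.chkName 241401 := upto_add uN_241024 rfl cN_241024
theorem uN_241774 : Upto T.chkName 241774 := upto_add uN_241401 rfl cN_241401
theorem uN_242146 : Upto T.chkName 242146 := upto_add uN_241774 rfl cN_241774
theorem uN_242516 : Upto T.chkName 242516 := upto_add uN_242146 rfl cN_242146
theorem uN_242885 : Upto T.chkName 242885 := upto_add uN_242516 rfl cN_242516
theorem uN_243252 : Upto T.chkName 243252 := upto_add uN_242885 rfl cN_242885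
theorem uN_243622 : Upto T.chkName 243622 := upto_add uN_243252 rfl cN_243252
theorem uN_243990 : Upto T.chkName 243990 := upto_add uN_243622 rfl cN_243622
theorem uN_244358 : Upto T.chkName 244358 := upto_add uN_243990 rfl cN_243990
theorem uN_244723 : Upto T.chkName 244723 := upto_add uN_244358 rfl cN_244358
theorem uN_245090 : Upto T.chkName 245090 := upto_add uN_244723 rfl cN_244723
theorem uN_245468 : Upto T.chkName 245468 := upto_add uN_245090 rfl cN_245090
theorem uN_245858 : Upto T.chkName 245858 := upto_add uN_245468 rfl cN_245468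
theorem uN_246251 : Upto T.chkName 246251 := upto_add uN_245858 rfl cN_245858
theorem uN_246636 : Upto T.chkName 246636 := upto_add uN_246251 rfl cN_246251
theorem uN_247043 : Upto T.chkName 247043 := upto_add uN_246636 rfl cN_246636
theorem uN_247449 : Upto T.chkName 247449 := upto_add uN_247043 rfl cN_247043
theorem uN_247854 : Upto T.chkName 247854 := upto_add uN_247449 rfl cN_247449
theorem uN_248258 : Upto T.chkName 248258 := upto_add uN_247854 rfl cN_247854
theorem uN_248658 : Upto T.chkName 248658 := upto_add uN_248258 rfl cN_248258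
theorem uN_249059 : Upto T.chkName 249059 := upto_add uN_248658 rfl cN_248658
theorem uN_249463 : Upto T.chkName 249463 := upto_add uN_249059 rfl cN_249059
theorem uN_249869 : Upto T.chkName 249869 := upto_add uN_249463 rfl cN_249463
theorem uN_250275 : Upto T.chkName 250275 := upto_add uN_249869 rfl cN_249869
theorem uN_250677 : Upto T.chkName 250677 := upto_add uN_250275 rfl cN_250275
theorem uN_251073 : Upto T.chkName 251073 := upto_add uN_250677 rfl cN_250677
theorem uN_251468 : Upto T.chkName 251468 := upto_add uN_251073 rfl cN_251073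
theorem uN_251864 : Upto T.chkName 251864 := upto_add uN_251468 rfl cN_251468
theorem uN_252259 : Upto T.chkName 252259 := upto_add uN_251864 rfl cN_251864
theorem uN_252658 : Upto T.chkName 252658 := upto_add uN_252259 rfl cN_252259
theorem uN_253050 : Upto T.chkName 253050 := upto_add uN_252658 rfl cN_252658
theorem uN_253436 : Upto T.chkName 253436 := upto_add uN_253050 rfl cN_253050
theorem uN_253825 : Upto T.chkName 253825 := upto_add uN_253436 rfl cN_253436
theorem uN_254214 : Upto T.chkName 254214 := upto_add uN_253825 rfl cN_253825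
theorem uN_254603 : Upto T.chkName 254603 := upto_add uN_254214 rfl cN_254214
theorem uN_254995 : Upto T.chkName 254995 := upto_add uN_254603 rfl cN_254603
theorem uN_255383 : Upto T.chkName 255383 := upto_add uN_254995 rfl cN_254995
theorem uN_255775 : Upto T.chkName 255775 := upto_add uN_255383 rfl cN_255383
theorem uN_256168 : Upto T.chkName 256168 := upto_add uN_255775 rfl cN_255775
theorem uN_256566 : Upto T.chkName 256566 := upto_add uN_256168 rfl cN_256168
theorem uN_256952 : Upto T.chkName 256952 := upto_add uN_256566 rfl cN_256566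
theorem uN_257325 : Upto T.chkName 257325 := upto_add uN_256952 rfl cN_256952
theorem uN_257697 : Upto T.chkName 257697 := upto_add uN_257325 rfl cN_257325
theorem uN_258071 : Upto T.chkName 258071 := upto_add uN_257697 rfl cN_257697
theorem uN_258448 : Upto T.chkName 258448 := upto_add uN_258071 rfl cN_258071
theorem uN_258831 : Upto T.chkName 258831 := upto_add uN_258448 rfl cN_258448
theorem uN_259219 : Upto T.chkName 259219 := upto_add uN_258831 rfl cN_258831
theorem uN_259602 : Upto T.chkName 259602 := upto_add uN_259219 rfl cN_259219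
theorem uN_259979 : Upto T.chkName 259979 := upto_add uN_259602 rfl cN_259602
theorem uN_260357 : Upto T.chkName 260357 := upto_add uN_259979 rfl cN_259979
theorem uN_260736 : Upto T.chkName 260736 := upto_add uN_260357 rfl cN_260357
theorem uN_261114 : Upto T.chkName 261114 := upto_add uN_260736 rfl cN_260736
theorem uN_261494 : Upto T.chkName 261494 := upto_add uN_261114 rfl cN_261114
theorem uN_261874 : Upto T.chkName 261874 := upto_add uN_261494 rfl cN_261494
theorem uN_262253 : Upto T.chkName 262253 := upto_add uN_261874 rfl cN_261874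
theorem uN_262640 : Upto T.chkName 262640 := upto_add uN_262253 rfl cN_262253
theorem uN_263014 : Upto T.chkName 263014 := upto_add uN_262640 rfl cN_262640
theorem uN_263391 : Upto T.chkName 263391 := upto_add uN_263014 rfl cN_263014
theorem uN_263761 : Upto T.chkName 263761 := upto_add uN_263391 rfl cN_263391
theorem uN_264137 : Upto T.chkName 264137 := upto_add uN_263761 rfl cN_263761
theorem uN_264515 : Upto T.chkName 264515 := upto_add uN_264137 rfl cN_264137
theorem uN_264886 : Upto T.chkName 264886 := upto_add uN_264515 rfl cN_264515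
theorem uN_265251 : Upto T.chkName 265251 := upto_add uN_264886 rfl cN_264886
theorem uN_265619 : Upto T.chkName 265619 := upto_add uN_265251 rfl cN_265251
theorem uN_265984 : Upto T.chkName 265984 := upto_add uN_265619 rfl cN_265619
theorem uN_266349 : Upto T.chkName 266349 := upto_add uN_265984 rfl cN_265984
theorem uN_266714 : Upto T.chkName 266714 := upto_add uN_266349 rfl cN_266349
theorem uN_267078 : Upto T.chkName 267078 := upto_add uN_266714 rfl cN_266714
theorem uN_267441 : Upto T.chkName 267441 := upto_add uN_267078 rfl cN_267078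
theorem uN_267816 : Upto T.chkName 267816 := upto_add uN_267441 rfl cN_267441
theorem uN_268210 : Upto T.chkName 268210 := upto_add uN_267816 rfl cN_267816
theorem uN_268601 : Upto T.chkName 268601 := upto_add uN_268210 rfl cN_268210
theorem uN_268986 : Upto T.chkName 268986 := upto_add uN_268601 rfl cN_268601
theorem uN_269393 : Upto T.chkName 269393 := upto_add uN_268986 rfl cN_268986
theorem uN_269797 : Upto T.chkName 269797 := upto_add uN_269393 rfl cN_269393
theorem uN_270200 : Upto T.chkName 270200 := upto_add uN_269797 rfl cN_269797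
theorem uN_270603 : Upto T.chkName 270603 := upto_add uN_270200 rfl cN_270200
theorem uN_271006 : Upto T.chkName 271006 := upto_add uN_270603 rfl cN_270603
theorem uN_271407 : Upto T.chkName 271407 := upto_add uN_271006 rfl cN_271006
theorem uN_271813 : Upto T.chkName 271813 := upto_add uN_271407 rfl cN_271407
theorem uN_272214 : Upto T.chkName 272214 := upto_add uN_271813 rfl cN_271813
theorem uN_272615 : Upto T.chkName 272615 := upto_add uN_272214 rfl cN_272214
theorem uN_273011 : Upto T.chkName 273011 := upto_add uN_272615 rfl cN_272615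
theorem uN_273405 : Upto T.chkName 273405 := upto_add uN_273011 rfl cN_273011
theorem uN_273800 : Upto T.chkName 273800 := upto_add uN_273405 rfl cN_273405
theorem uN_274198 : Upto T.chkName 274198 := upto_add uN_273800 rfl cN_273800
theorem uN_274590 : Upto T.chkName 274590 := upto_add uN_274198 rfl cN_274198
theorem uN_274977 : Upto T.chkName 274977 := upto_add uN_274590 rfl cN_274590
theorem uN_275366 : Upto T.chkName 275366 := upto_add uN_274977 rfl cN_274977
theorem uN_275757 : Upto T.chkName 275757 := upto_add uN_275366 rfl cN_275366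
theorem uN_276146 : Upto T.chkName 276146 := upto_add uN_275757 rfl cN_275757
theorem uN_276539 : Upto T.chkName 276539 := upto_add uN_276146 rfl cN_276146
theorem uN_276930 : Upto T.chkName 276930 := upto_add uN_276539 rfl cN_276539
theorem uN_277329 : Upto T.chkName 277329 := upto_add uN_276930 rfl cN_276930
theorem uN_277701 : Upto T.chkName 277701 := upto_add uN_277329 rfl cN_277329
theorem uN_278067 : Upto T.chkName 278067 := upto_add uN_277701 rfl cN_277701
theorem uN_278445 : Upto T.chkName 278445 := upto_add uN_278067 rfl cN_278067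
theorem uN_278824 : Upto T.chkName 278824 := upto_add uN_278445 rfl cN_278445
theorem uN_279207 : Upto T.chkName 279207 := upto_add uN_278824 rfl cN_278824
theorem uN_279581 : Upto T.chkName 279581 := upto_add uN_279207 rfl cN_279207
theorem uN_279954 : Upto T.chkName 279954 := upto_add uN_279581 rfl cN_279581
theorem uN_280331 : Upto T.chkName 280331 := upto_add uN_279954 rfl cN_279954
theorem uN_280709 : Upto T.chkName 280709 := upto_add uN_280331 rfl cN_280331
theorem uN_281086 : Upto T.chkName 281086 := upto_add uN_280709 rfl cN_280709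
theorem uN_281463 : Upto T.chkName 281463 := upto_add uN_281086 rfl cN_281086
theorem uN_281841 : Upto T.chkName 281841 := upto_add uN_281463 rfl cN_281463
theorem uN_282210 : Upto T.chkName 282210 := upto_add uN_281841 rfl cN_281841
theorem uN_282582 : Upto T.chkName 282582 := upto_add uN_282210 rfl cN_282210
theorem uN_282954 : Upto T.chkName 282954 := upto_add uN_282582 rfl cN_282582
theorem uN_283319 : Upto T.chkName 283319 := upto_add uN_282954 rfl cN_282954
theorem uN_283685 : Upto T.chkName 283685 := upto_add uN_283319 rfl cN_283319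
theorem uN_284044 : Upto T.chkName 284044 := upto_add uN_283685 rfl cN_283685
theorem uN_284406 : Upto T.chkName 284406 := upto_add uN_284044 rfl cN_284044
theorem uN_284772 : Upto T.chkName 284772 := upto_add uN_284406 rfl cN_284406
theorem uN_285161 : Upto T.chkName 285161 := upto_add uN_284772 rfl cN_284772
theorem uN_285554 : Upto T.chkName 285554 := upto_add uN_285161 rfl cN_285161
theorem uN_285934 : Upto T.chkName 285934 := upto_add uN_285554 rfl cN_285554
theorem uN_286342 : Upto T.chkName 286342 := upto_add uN_285934 rfl cN_285934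
theorem uN_286742 : Upto T.chkName 286742 := upto_add uN_286342 rfl cN_286342
theorem uN_287140 : Upto T.chkName 287140 := upto_add uN_286742 rfl cN_286742
theorem uN_287541 : Upto T.chkName 287541 := upto_add uN_287140 rfl cN_287140
theorem uN_287942 : Upto T.chkName 287942 := upto_add uN_287541 rfl cN_287541
theorem uN_288341 : Upto T.chkName 288341 := upto_add uN_287942 rfl cN_287942
theorem uN_288736 : Upto T.chkName 288736 := upto_add uN_288341 rfl cN_288341
theorem uN_289129 : Upto T.chkName 289129 := upto_add uN_288736 rfl cN_288736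
theorem uN_289524 : Upto T.chkName 289524 := upto_add uN_289129 rfl cN_289129
theorem uN_289911 : Upto T.chkName 289911 := upto_add uN_289524 rfl cN_289524
theorem uN_290298 : Upto T.chkName 290298 := upto_add uN_289911 rfl cN_289911
theorem uN_290691 : Upto T.chkName 290691 := upto_add uN_290298 rfl cN_290298
theorem uN_291083 : Upto T.chkName 291083 := upto_add uN_290691 rfl cN_290691
theorem uN_291479 : Upto T.chkName 291479 := upto_add uN_291083 rfl cN_291083
theorem uN_291851 : Upto T.chkName 291851 := upto_add uN_291479 rfl cN_291479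
theorem uN_292209 : Upto T.chkName 292209 := upto_add uN_291851 rfl cN_291851
theorem uN_292589 : Upto T.chkName 292589 := upto_add uN_292209 rfl cN_292209
theorem uN_292962 : Upto T.chkName 292962 := upto_add uN_292589 rfl cN_292589
theorem uN_293332 : Upto T.chkName 293332 := upto_add uN_292962 rfl cN_292962
theorem uN_293708 : Upto T.chkName 293708 := upto_add uN_293332 rfl cN_293332
theorem uN_294068 : Upto T.chkName 294068 := upto_add uN_293708 rfl cN_293708
theorem uN_294439 : Upto T.chkName 294439 := upto_add uN_294068 rfl cN_294068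
theorem uN_294806 : Upto T.chkName 294806 := upto_add uN_294439 rfl cN_294439
theorem uN_295167 : Upto T.chkName 295167 := upto_add uN_294806 rfl cN_294806
theorem uN_295519 : Upto T.chkName 295519 := upto_add uN_295167 rfl cN_295167
theorem uN_295880 : Upto T.chkName 295880 := upto_add uN_295519 rfl cN_295519
theorem uN_296277 : Upto T.chkName 296277 := upto_add uN_295880 rfl cN_295880
theorem uN_296658 : Upto T.chkName 296658 := upto_add uN_296277 rfl cN_296277
theorem uN_297053 : Upto T.chkName 297053 := upto_add uN_296658 rfl cN_296658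
theorem uN_297457 : Upto T.chkName 297457 := upto_add uN_297053 rfl cN_297053
theorem uN_297860 : Upto T.chkName 297860 := upto_add uN_297457 rfl cN_297457
theorem uN_298257 : Upto T.chkName 298257 := upto_add uN_297860 rfl cN_297860
theorem uN_298650 : Upto T.chkName 298650 := upto_add uN_298257 rfl cN_298257
theorem uN_299031 : Upto T.chkName 299031 := upto_add uN_298650 rfl cN_298650
theorem uN_299417 : Upto T.chkName 299417 := upto_add uN_299031 rfl cN_299031
theorem uN_299807 : Upto T.chkName 299807 := upto_add uN_299417 rfl cN_299417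
theorem uN_300185 : Upto T.chkName 300185 := upto_add uN_299807 rfl cN_299807
theorem uN_300546 : Upto T.chkName 300546 := upto_add uN_300185 rfl cN_300185
theorem uN_300906 : Upto T.chkName 300906 := upto_add uN_300546 rfl cN_300546
theorem uN_301274 : Upto T.chkName 301274 := upto_add uN_300906 rfl cN_300906
theorem uN_301638 : Upto T.chkName 301638 := upto_add uN_301274 rfl cN_301274
theorem uN_301982 : Upto T.chkName 301982 := upto_add uN_301638 rfl cN_301638
theorem uN_302372 : Upto T.chkName 302372 := upto_add uN_301982 rfl cN_301982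
theorem uN_302759 : Upto T.chkName 302759 := upto_add uN_302372 rfl cN_302372
theorem uN_303156 : Upto T.chkName 303156 := upto_add uN_302759 rfl cN_302759
theorem uN_303553 : Upto T.chkName 303553 := upto_add uN_303156 rfl cN_303156
theorem uN_303941 : Upto T.chkName 303941 := upto_add uN_303553 rfl cN_303553
theorem uN_304326 : Upto T.chkName 304326 := upto_add uN_303941 rfl cN_303941
theorem uN_304691 : Upto T.chkName 304691 := upto_add uN_304326 rfl cN_304326
theorem uN_305051 : Upto T.chkName 305051 := upto_add uN_304691 rfl cN_304691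
theorem uN_305433 : Upto T.chkName 305433 := upto_add uN_305051 rfl cN_305051
theorem uN_305832 : Upto T.chkName 305832 := upto_add uN_305433 rfl cN_305433
theorem uN_306205 : Upto T.chkName 306205 := upto_add uN_305832 rfl cN_305832
theorem uN_306592 : Upto T.chkName 306592 := upto_add uN_306205 rfl cN_306205
theorem uN_306974 : Upto T.chkName 306974 := upto_add uN_306592 rfl cN_306592
theorem uN_307469 : Upto T.chkName 307469 := upto_add uN_306974 rfl cN_306974
theorem uN_307967 : Upto T.chkName 307967 := upto_add uN_307469 rfl cN_307469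
theorem uN_308479 : Upto T.chkName 308479 := upto_add uN_307967 rfl cN_307967
theorem uN_308956 : Upto T.chkName 308956 := upto_add uN_308479 rfl cN_308479
theorem uN_309437 : Upto T.chkName 309437 := upto_add uN_308956 rfl cN_308956
theorem uN_309911 : Upto T.chkName 309911 := upto_add uN_309437 rfl cN_309437
theorem uN_310388 : Upto T.chkName 310388 := upto_add uN_309911 rfl cN_309911
theorem uN_310868 : Upto T.chkName 310868 := upto_add uN_310388 rfl cN_310388
theorem uN_311343 : Upto T.chkName 311343 := upto_add uN_310868 rfl cN_310868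
theorem uN_311823 : Upto T.chkName 311823 := upto_add uN_311343 rfl cN_311343
theorem uN_312302 : Upto T.chkName 312302 := upto_add uN_311823 rfl cN_311823
theorem uN_312784 : Upto T.chkName 312784 := upto_add uN_312302 rfl cN_312302
theorem uN_313263 : Upto T.chkName 313263 := upto_add uN_312784 rfl cN_312784
theorem uN_313732 : Upto T.chkName 313732 := upto_add uN_313263 rfl cN_313263
theorem uN_314216 : Upto T.chkName 314216 := upto_add uN_313732 rfl cN_313732
theorem uN_314689 : Upto T.chkName 314689 := upto_add uN_314216 rfl cN_314216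
theorem uN_315166 : Upto T.chkName 315166 := upto_add uN_314689 rfl cN_314689
theorem uN_315653 : Upto T.chkName 315653 := upto_add uN_315166 rfl cN_315166
theorem uN_316133 : Upto T.chkName 316133 := upto_add uN_315653 rfl cN_315653
theorem uN_316618 : Upto T.chkName 316618 := upto_add uN_316133 rfl cN_316133
theorem uN_317100 : Upto T.chkName 317100 := upto_add uN_316618 rfl cN_316618
theorem uN_317568 : Upto T.chkName 317568 := upto_add uN_317100 rfl cN_317100
theorem uN_318057 : Upto T.chkName 318057 := upto_add uN_317568 rfl cN_317568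
theorem uN_318541 : Upto T.chkName 318541 := upto_add uN_318057 rfl cN_318057
theorem uN_319014 : Upto T.chkName 319014 := upto_add uN_318541 rfl cN_318541
theorem uN_319481 : Upto T.chkName 319481 := upto_add uN_319014 rfl cN_319014
theorem uN_319979 : Upto T.chkName 319979 := upto_add uN_319481 rfl cN_319481
theorem uN_320469 : Upto T.chkName 320469 := upto_add uN_319979 rfl cN_319979
theorem uN_320955 : Upto T.chkName 320955 := upto_add uN_320469 rfl cN_320469
theorem uN_321445 : Upto T.chkName 321445 := upto_add uN_320955 rfl cN_320955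
theorem uN_321934 : Upto T.chkName 321934 := upto_add uN_321445 rfl cN_321445
theorem uN_322418 : Upto T.chkName 322418 := upto_add uN_321934 rfl cN_321934
theorem uN_322895 : Upto T.chkName 322895 := upto_add uN_322418 rfl cN_322418
theorem uN_323379 : Upto T.chkName 323379 := upto_add uN_322895 rfl cN_322895
theorem uN_323874 : Upto T.chkName 323874 := upto_add uN_323379 rfl cN_323379
theorem uN_324360 : Upto T.chkName 324360 := upto_add uN_323874 rfl cN_323874
theorem uN_324841 : Upto T.chkName 324841 := upto_add uN_324360 rfl cN_324360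
theorem uN_325318 : Upto T.chkName 325318 := upto_add uN_324841 rfl cN_324841
theorem uN_325791 : Upto T.chkName 325791 := upto_add uN_325318 rfl cN_325318
theorem uN_326288 : Upto T.chkName 326288 := upto_add uN_325791 rfl cN_325791
theorem uN_326785 : Upto T.chkName 326785 := upto_add uN_326288 rfl cN_326288
theorem uN_327279 : Upto T.chkName 327279 := upto_add uN_326785 rfl cN_326785
theorem uN_327774 : Upto T.chkName 327774 := upto_add uN_327279 rfl cN_327279
theorem uN_328272 : Upto T.chkName 328272 := upto_add uN_327774 rfl cN_327774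
theorem uN_328768 : Upto T.chkName 328768 := upto_add uN_328272 rfl cN_328272
theorem uN_329260 : Upto T.chkName 329260 := upto_add uN_328768 rfl cN_328768
theorem uN_329752 : Upto T.chkName 329752 := upto_add uN_329260 rfl cN_329260
theorem uN_330245 : Upto T.chkName 330245 := upto_add uN_329752 rfl cN_329752
theorem uN_330730 : Upto T.chkName 330730 := upto_add uN_330245 rfl cN_330245
theorem uN_331225 : Upto T.chkName 331225 := upto_add uN_330730 rfl cN_330730
theorem uN_331721 : Upto T.chkName 331721 := upto_add uN_331225 rfl cN_331225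
theorem uN_332211 : Upto T.chkName 332211 := upto_add uN_331721 rfl cN_331721
theorem uN_332700 : Upto T.chkName 332700 := upto_add uN_332211 rfl cN_332211
theorem uN_333190 : Upto T.chkName 333190 := upto_add uN_332700 rfl cN_332700
theorem uN_333673 : Upto T.chkName 333673 := upto_add uN_333190 rfl cN_333190
theorem uN_334162 : Upto T.chkName 334162 := upto_add uN_333673 rfl cN_333673
theorem uN_334659 : Upto T.chkName 334659 := upto_add uN_334162 rfl cN_334162
theorem uN_335158 : Upto T.chkName 335158 := upto_add uN_334659 rfl cN_334659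
theorem uN_335656 : Upto T.chkName 335656 := upto_add uN_335158 rfl cN_335158
theorem uN_336156 : Upto T.chkName 336156 := upto_add uN_335656 rfl cN_335656
theorem uN_336664 : Upto T.chkName 336664 := upto_add uN_336156 rfl cN_336156
theorem uN_337194 : Upto T.chkName 337194 := upto_add uN_336664 rfl cN_336664
theorem uN_337722 : Upto T.chkName 337722 := upto_add uN_337194 rfl cN_337194
theorem uN_338251 : Upto T.chkName 338251 := upto_add uN_337722 rfl cN_337722
theorem uN_338779 : Upto T.chkName 338779 := upto_add uN_338251 rfl cN_338251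
theorem uN_339306 : Upto T.chkName 339306 := upto_add uN_338779 rfl cN_338779
theorem uN_339831 : Upto T.chkName 339831 := upto_add uN_339306 rfl cN_339306
theorem uN_340362 : Upto T.chkName 340362 := upto_add uN_339831 rfl cN_339831
theorem uN_340892 : Upto T.chkName 340892 := upto_add uN_340362 rfl cN_340362
theorem uN_341421 : Upto T.chkName 341421 := upto_add uN_340892 rfl cN_340892
theorem uN_341951 : Upto T.chkName 341951 := upto_add uN_341421 rfl cN_341421
theorem uN_342480 : Upto T.chkName 342480 := upto_add uN_341951 rfl cN_341951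
theorem uN_343007 : Upto T.chkName 343007 := upto_add uN_342480 rfl cN_342480
theorem uN_343538 : Upto T.chkName 343538 := upto_add uN_343007 rfl cN_343007
theorem uN_344067 : Upto T.chkName 344067 := upto_add uN_343538 rfl cN_343538
theorem uN_344596 : Upto T.chkName 344596 := upto_add uN_344067 rfl cN_344067
theorem uN_345126 : Upto T.chkName 345126 := upto_add uN_344596 rfl cN_344596
theorem uN_345655 : Upto T.chkName 345655 := upto_add uN_345126 rfl cN_345126
theorem uN_346164 : Upto T.chkName 346164 := upto_add uN_345655 rfl cN_345655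
theorem uV_234 : Upto T.chkV 234 := upto_add (upto_zero T.chkV) rfl cV_0
theorem uV_468 : Upto T.chkV 468 := upto_add uV_234 rfl cV_234
theorem uV_702 : Upto T.chkV 702 := upto_add uV_468 rfl cV_468
theorem uV_936 : Upto T.chkV 936 := upto_add uV_702 rfl cV_702
theorem uV_1170 : Upto T.chkV 1170 := upto_add uV_936 rfl cV_936
theorem uV_1404 : Upto T.chkV 1404 := upto_add uV_1170 rfl cV_1170
theorem uV_1638 : Upto T.chkV 1638 := upto_add uV_1404 rfl cV_1404
theorem uV_1872 : Upto T.chkV 1872 := upto_add uV_1638 rfl cV_1638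
theorem uV_2106 : Upto T.chkV 2106 := upto_add uV_1872 rfl cV_1872
theorem uV_2340 : Upto T.chkV 2340 := upto_add uV_2106 rfl cV_2106
theorem uV_2574 : Upto T.chkV 2574 := upto_add uV_2340 rfl cV_2340
theorem uV_2808 : Upto T.chkV 2808 := upto_add uV_2574 rfl cV_2574
theorem uV_3042 : Upto T.chkV 3042 := upto_add uV_2808 rfl cV_2808
theorem uV_3276 : Upto T.chkV 3276 := upto_add uV_3042 rfl cV_3042
theorem uV_3510 : Upto T.chkV 3510 := upto_add uV_3276 rfl cV_3276
theorem uV_3744 : Upto T.chkV 3744 := upto_add uV_3510 rfl cV_3510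
theorem uV_3978 : Upto T.chkV 3978 := upto_add uV_3744 rfl cV_3744
theorem uV_4212 : Upto T.chkV 4212 := upto_add uV_3978 rfl cV_3978
theorem uV_4446 : Upto T.chkV 4446 := upto_add uV_4212 rfl cV_4212
theorem uV_4680 : Upto T.chkV 4680 := upto_add uV_4446 rfl cV_4446
theorem uV_4914 : Upto T.chkV 4914 := upto_add uV_4680 rfl cV_4680
theorem uV_5148 : Upto T.chkV 5148 := upto_add uV_4914 rfl cV_4914
theorem uV_5382 : Upto T.chkV 5382 := upto_add uV_5148 rfl cV_5148
theorem uV_5616 : Upto T.chkV 5616 := upto_add uV_5382 rfl cV_5382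
theorem uV_5850 : Upto T.chkV 5850 := upto_add uV_5616 rfl cV_5616
theorem uV_6084 : Upto T.chkV 6084 := upto_add uV_5850 rfl cV_5850
theorem uV_6318 : Upto T.chkV 6318 := upto_add uV_6084 rfl cV_6084
theorem uV_6552 : Upto T.chkV 6552 := upto_add uV_6318 rfl cV_6318
theorem uV_6786 : Upto T.chkV 6786 := upto_add uV_6552 rfl cV_6552
theorem uV_7020 : Upto T.chkV 7020 := upto_add uV_6786 rfl cV_6786
theorem uV_7254 : Upto T.chkV 7254 := upto_add uV_7020 rfl cV_7020
theorem uV_7488 : Upto T.chkV 7488 := upto_add uV_7254 rfl cV_7254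
theorem uV_7722 : Upto T.chkV 7722 := upto_add uV_7488 rfl cV_7488
theorem uV_7956 : Upto T.chkV 7956 := upto_add uV_7722 rfl cV_7722
theorem uV_8190 : Upto T.chkV 8190 := upto_add uV_7956 rfl cV_7956
theorem uV_8424 : Upto T.chkV 8424 := upto_add uV_8190 rfl cV_8190
theorem uV_8658 : Upto T.chkV 8658 := upto_add uV_8424 rfl cV_8424
theorem uV_8892 : Upto T.chkV 8892 := upto_add uV_8658 rfl cV_8658
theorem uV_9126 : Upto T.chkV 9126 := upto_add uV_8892 rfl cV_8892
theorem uV_9360 : Upto T.chkV 9360 := upto_add uV_9126 rfl cV_9126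
theorem uV_9594 : Upto T.chkV 9594 := upto_add uV_9360 rfl cV_9360
theorem uV_9828 : Upto T.chkV 9828 := upto_add uV_9594 rfl cV_9594
theorem uV_10062 : Upto T.chkV 10062 := upto_add uV_9828 rfl cV_9828
theorem uV_10296 : Upto T.chkV 10296 := upto_add uV_10062 rfl cV_10062
theorem uV_10530 : Upto T.chkV 10530 := upto_add uV_10296 rfl cV_10296
theorem uV_10764 : Upto T.chkV 10764 := upto_add uV_10530 rfl cV_10530
theorem uV_10998 : Upto T.chkV 10998 := upto_add uV_10764 rfl cV_10764
theorem uV_11232 : Upto T.chkV 11232 := upto_add uV_10998 rfl cV_10998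
theorem uV_11466 : Upto T.chkV 11466 := upto_add uV_11232 rfl cV_11232
theorem uV_11700 : Upto T.chkV 11700 := upto_add uV_11466 rfl cV_11466
theorem uV_11934 : Upto T.chkV 11934 := upto_add uV_11700 rfl cV_11700
theorem uV_12168 : Upto T.chkV 12168 := upto_add uV_11934 rfl cV_11934
theorem uV_12402 : Upto T.chkV 12402 := upto_add uV_12168 rfl cV_12168
theorem uV_12636 : Upto T.chkV 12636 := upto_add uV_12402 rfl cV_12402
theorem uV_12870 : Upto T.chkV 12870 := upto_add uV_12636 rfl cV_12636
theorem uV_13104 : Upto T.chkV 13104 := upto_add uV_12870 rfl cV_12870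
theorem uV_13338 : Upto T.chkV 13338 := upto_add uV_13104 rfl cV_13104
theorem uV_13572 : Upto T.chkV 13572 := upto_add uV_13338 rfl cV_13338
theorem uV_13806 : Upto T.chkV 13806 := upto_add uV_13572 rfl cV_13572
theorem uV_14040 : Upto T.chkV 14040 := upto_add uV_13806 rfl cV_13806
theorem uV_14274 : Upto T.chkV 14274 := upto_add uV_14040 rfl cV_14040
theorem uV_14508 : Upto T.chkV 14508 := upto_add uV_14274 rfl cV_14274
theorem uV_14742 : Upto T.chkV 14742 := upto_add uV_14508 rfl cV_14508
theorem uV_14976 : Upto T.chkV 14976 := upto_add uV_14742 rfl cV_14742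
theorem uV_15210 : Upto T.chkV 15210 := upto_add uV_14976 rfl cV_14976
theorem uV_15444 : Upto T.chkV 15444 := upto_add uV_15210 rfl cV_15210
theorem uV_15678 : Upto T.chkV 15678 := upto_add uV_15444 rfl cV_15444
theorem uV_15912 : Upto T.chkV 15912 := upto_add uV_15678 rfl cV_15678
theorem uV_16146 : Upto T.chkV 16146 := upto_add uV_15912 rfl cV_15912
theorem uV_16380 : Upto T.chkV 16380 := upto_add uV_16146 rfl cV_16146
theorem uV_16614 : Upto T.chkV 16614 := upto_add uV_16380 rfl cV_16380
theorem uV_16848 : Upto T.chkV 16848 := upto_add uV_16614 rfl cV_16614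
theorem uV_17082 : Upto T.chkV 17082 := upto_add uV_16848 rfl cV_16848
theorem uV_17316 : Upto T.chkV 17316 := upto_add uV_17082 rfl cV_17082
theorem uV_17550 : Upto T.chkV 17550 := upto_add uV_17316 rfl cV_17316
theorem uV_17784 : Upto T.chkV 17784 := upto_add uV_17550 rfl cV_17550
theorem uV_18018 : Upto T.chkV 18018 := upto_add uV_17784 rfl cV_17784
theorem uV_18252 : Upto T.chkV 18252 := upto_add uV_18018 rfl cV_18018
theorem uV_18486 : Upto T.chkV 18486 := upto_add uV_18252 rfl cV_18252
theorem uV_18720 : Upto T.chkV 18720 := upto_add uV_18486 rfl cV_18486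
theorem uV_18954 : Upto T.chkV 18954 := upto_add uV_18720 rfl cV_18720
theorem uV_19188 : Upto T.chkV 19188 := upto_add uV_18954 rfl cV_18954
theorem uV_19422 : Upto T.chkV 19422 := upto_add uV_19188 rfl cV_19188
theorem uV_19656 : Upto T.chkV 19656 := upto_add uV_19422 rfl cV_19422
theorem uV_19890 : Upto T.chkV 19890 := upto_add uV_19656 rfl cV_19656
theorem uV_20124 : Upto T.chkV 20124 := upto_add uV_19890 rfl cV_19890
theorem uV_20358 : Upto T.chkV 20358 := upto_add uV_20124 rfl cV_20124
theorem uV_20592 : Upto T.chkV 20592 := upto_add uV_20358 rfl cV_20358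
theorem uV_20826 : Upto T.chkV 20826 := upto_add uV_20592 rfl cV_20592
theorem uV_21060 : Upto T.chkV 21060 := upto_add uV_20826 rfl cV_20826
theorem uV_21294 : Upto T.chkV 21294 := upto_add uV_21060 rfl cV_21060
theorem uV_21528 : Upto T.chkV 21528 := upto_add uV_21294 rfl cV_21294
theorem uV_21762 : Upto T.chkV 21762 := upto_add uV_21528 rfl cV_21528
theorem uV_21996 : Upto T.chkV 21996 := upto_add uV_21762 rfl cV_21762
theorem uV_22230 : Upto T.chkV 22230 := upto_add uV_21996 rfl cV_21996
theorem uV_22464 : Upto T.chkV 22464 := upto_add uV_22230 rfl cV_22230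
theorem uV_22698 : Upto T.chkV 22698 := upto_add uV_22464 rfl cV_22464
theorem uV_22932 : Upto T.chkV 22932 := upto_add uV_22698 rfl cV_22698
theorem uV_23166 : Upto T.chkV 23166 := upto_add uV_22932 rfl cV_22932
theorem uV_23400 : Upto T.chkV 23400 := upto_add uV_23166 rfl cV_23166
theorem uV_23634 : Upto T.chkV 23634 := upto_add uV_23400 rfl cV_23400
theorem uV_23868 : Upto T.chkV 23868 := upto_add uV_23634 rfl cV_23634
theorem uV_24102 : Upto T.chkV 24102 := upto_add uV_23868 rfl cV_23868
theorem uV_24336 : Upto T.chkV 24336 := upto_add uV_24102 rfl cV_24102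
theorem uV_24570 : Upto T.chkV 24570 := upto_add uV_24336 rfl cV_24336
theorem uV_24804 : Upto T.chkV 24804 := upto_add uV_24570 rfl cV_24570
theorem uV_25038 : Upto T.chkV 25038 := upto_add uV_24804 rfl cV_24804
theorem uV_25272 : Upto T.chkV 25272 := upto_add uV_25038 rfl cV_25038
theorem uV_25506 : Upto T.chkV 25506 := upto_add uV_25272 rfl cV_25272
theorem uV_25740 : Upto T.chkV 25740 := upto_add uV_25506 rfl cV_25506
theorem uV_25974 : Upto T.chkV 25974 := upto_add uV_25740 rfl cV_25740
theorem uV_26208 : Upto T.chkV 26208 := upto_add uV_25974 rfl cV_25974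
theorem uV_26442 : Upto T.chkV 26442 := upto_add uV_26208 rfl cV_26208
theorem uV_26676 : Upto T.chkV 26676 := upto_add uV_26442 rfl cV_26442
theorem uV_26910 : Upto T.chkV 26910 := upto_add uV_26676 rfl cV_26676
theorem uV_27144 : Upto T.chkV 27144 := upto_add uV_26910 rfl cV_26910
theorem uV_27378 : Upto T.chkV 27378 := upto_add uV_27144 rfl cV_27144
theorem uV_27612 : Upto T.chkV 27612 := upto_add uV_27378 rfl cV_27378
theorem uV_27846 : Upto T.chkV 27846 := upto_add uV_27612 rfl cV_27612
theorem uV_28080 : Upto T.chkV 28080 := upto_add uV_27846 rfl cV_27846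
theorem uV_28314 : Upto T.chkV 28314 := upto_add uV_28080 rfl cV_28080
theorem uV_28548 : Upto T.chkV 28548 := upto_add uV_28314 rfl cV_28314
theorem uV_28782 : Upto T.chkV 28782 := upto_add uV_28548 rfl cV_28548
theorem uV_29016 : Upto T.chkV 29016 := upto_add uV_28782 rfl cV_28782
theorem uV_29250 : Upto T.chkV 29250 := upto_add uV_29016 rfl cV_29016
theorem uV_29484 : Upto T.chkV 29484 := upto_add uV_29250 rfl cV_29250
theorem uV_29718 : Upto T.chkV 29718 := upto_add uV_29484 rfl cV_29484
theorem uV_29952 : Upto T.chkV 29952 := upto_add uV_29718 rfl cV_29718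
theorem uV_30186 : Upto T.chkV 30186 := upto_add uV_29952 rfl cV_29952
theorem uV_30420 : Upto T.chkV 30420 := upto_add uV_30186 rfl cV_30186
theorem uV_30654 : Upto T.chkV 30654 := upto_add uV_30420 rfl cV_30420
theorem uV_30888 : Upto T.chkV 30888 := upto_add uV_30654 rfl cV_30654
theorem uV_31122 : Upto T.chkV 31122 := upto_add uV_30888 rfl cV_30888
theorem uV_31356 : Upto T.chkV 31356 := upto_add uV_31122 rfl cV_31122
theorem uV_31590 : Upto T.chkV 31590 := upto_add uV_31356 rfl cV_31356
theorem uV_31824 : Upto T.chkV 31824 := upto_add uV_31590 rfl cV_31590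
theorem uV_32058 : Upto T.chkV 32058 := upto_add uV_31824 rfl cV_31824
theorem uV_32292 : Upto T.chkV 32292 := upto_add uV_32058 rfl cV_32058
theorem uV_32526 : Upto T.chkV 32526 := upto_add uV_32292 rfl cV_32292
theorem uV_32760 : Upto T.chkV 32760 := upto_add uV_32526 rfl cV_32526
theorem uV_32994 : Upto T.chkV 32994 := upto_add uV_32760 rfl cV_32760
theorem uV_33228 : Upto T.chkV 33228 := upto_add uV_32994 rfl cV_32994
theorem uV_33462 : Upto T.chkV 33462 := upto_add uV_33228 rfl cV_33228
theorem uV_33696 : Upto T.chkV 33696 := upto_add uV_33462 rfl cV_33462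
theorem uV_33930 : Upto T.chkV 33930 := upto_add uV_33696 rfl cV_33696
theorem uV_34164 : Upto T.chkV 34164 := upto_add uV_33930 rfl cV_33930
theorem uV_34398 : Upto T.chkV 34398 := upto_add uV_34164 rfl cV_34164
theorem uV_34632 : Upto T.chkV 34632 := upto_add uV_34398 rfl cV_34398
theorem uV_34866 : Upto T.chkV 34866 := upto_add uV_34632 rfl cV_34632
theorem uV_35100 : Upto T.chkV 35100 := upto_add uV_34866 rfl cV_34866
theorem uV_35334 : Upto T.chkV 35334 := upto_add uV_35100 rfl cV_35100
theorem uV_35568 : Upto T.chkV 35568 := upto_add uV_35334 rfl cV_35334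
theorem uV_35802 : Upto T.chkV 35802 := upto_add uV_35568 rfl cV_35568
theorem uV_36036 : Upto T.chkV 36036 := upto_add uV_35802 rfl cV_35802
theorem uV_36270 : Upto T.chkV 36270 := upto_add uV_36036 rfl cV_36036
theorem uV_36504 : Upto T.chkV 36504 := upto_add uV_36270 rfl cV_36270
theorem uV_36738 : Upto T.chkV 36738 := upto_add uV_36504 rfl cV_36504
theorem uV_36972 : Upto T.chkV 36972 := upto_add uV_36738 rfl cV_36738
theorem uV_37206 : Upto T.chkV 37206 := upto_add uV_36972 rfl cV_36972
theorem uV_37440 : Upto T.chkV 37440 := upto_add uV_37206 rfl cV_37206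
theorem uV_37674 : Upto T.chkV 37674 := upto_add uV_37440 rfl cV_37440
theorem uV_37908 : Upto T.chkV 37908 := upto_add uV_37674 rfl cV_37674
theorem uV_38142 : Upto T.chkV 38142 := upto_add uV_37908 rfl cV_37908
theorem uV_38376 : Upto T.chkV 38376 := upto_add uV_38142 rfl cV_38142
theorem uV_38610 : Upto T.chkV 38610 := upto_add uV_38376 rfl cV_38376
theorem uV_38844 : Upto T.chkV 38844 := upto_add uV_38610 rfl cV_38610
theorem uV_39078 : Upto T.chkV 39078 := upto_add uV_38844 rfl cV_38844
theorem uV_39312 : Upto T.chkV 39312 := upto_add uV_39078 rfl cV_39078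
theorem uV_39546 : Upto T.chkV 39546 := upto_add uV_39312 rfl cV_39312
theorem uV_39780 : Upto T.chkV 39780 := upto_add uV_39546 rfl cV_39546
theorem uV_40014 : Upto T.chkV 40014 := upto_add uV_39780 rfl cV_39780
theorem uV_40248 : Upto T.chkV 40248 := upto_add uV_40014 rfl cV_40014
theorem uV_40482 : Upto T.chkV 40482 := upto_add uV_40248 rfl cV_40248
theorem uV_40716 : Upto T.chkV 40716 := upto_add uV_40482 rfl cV_40482
theorem uV_40950 : Upto T.chkV 40950 := upto_add uV_40716 rfl cV_40716
theorem uV_41184 : Upto T.chkV 41184 := upto_add uV_40950 rfl cV_40950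
theorem uV_41418 : Upto T.chkV 41418 := upto_add uV_41184 rfl cV_41184
theorem uV_41652 : Upto T.chkV 41652 := upto_add uV_41418 rfl cV_41418
theorem uV_41886 : Upto T.chkV 41886 := upto_add uV_41652 rfl cV_41652
theorem uV_42120 : Upto T.chkV 42120 := upto_add uV_41886 rfl cV_41886
theorem uV_42354 : Upto T.chkV 42354 := upto_add uV_42120 rfl cV_42120
theorem uV_42588 : Upto T.chkV 42588 := upto_add uV_42354 rfl cV_42354
theorem uV_42822 : Upto T.chkV 42822 := upto_add uV_42588 rfl cV_42588
theorem uV_43056 : Upto T.chkV 43056 := upto_add uV_42822 rfl cV_42822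
theorem uV_43290 : Upto T.chkV 43290 := upto_add uV_43056 rfl cV_43056
theorem uV_43524 : Upto T.chkV 43524 := upto_add uV_43290 rfl cV_43290
theorem uV_43758 : Upto T.chkV 43758 := upto_add uV_43524 rfl cV_43524
theorem uV_43992 : Upto T.chkV 43992 := upto_add uV_43758 rfl cV_43758
theorem uV_44226 : Upto T.chkV 44226 := upto_add uV_43992 rfl cV_43992
theorem uV_44460 : Upto T.chkV 44460 := upto_add uV_44226 rfl cV_44226
theorem uV_44694 : Upto T.chkV 44694 := upto_add uV_44460 rfl cV_44460
theorem uV_44928 : Upto T.chkV 44928 := upto_add uV_44694 rfl cV_44694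
theorem uV_45162 : Upto T.chkV 45162 := upto_add uV_44928 rfl cV_44928
theorem uV_45396 : Upto T.chkV 45396 := upto_add uV_45162 rfl cV_45162
theorem uV_45630 : Upto T.chkV 45630 := upto_add uV_45396 rfl cV_45396
theorem uV_45864 : Upto T.chkV 45864 := upto_add uV_45630 rfl cV_45630
theorem uV_46098 : Upto T.chkV 46098 := upto_add uV_45864 rfl cV_45864
theorem uV_46332 : Upto T.chkV 46332 := upto_add uV_46098 rfl cV_46098
theorem uV_46566 : Upto T.chkV 46566 := upto_add uV_46332 rfl cV_46332
theorem uV_46800 : Upto T.chkV 46800 := upto_add uV_46566 rfl cV_46566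
theorem uV_47034 : Upto T.chkV 47034 := upto_add uV_46800 rfl cV_46800
theorem uV_47268 : Upto T.chkV 47268 := upto_add uV_47034 rfl cV_47034
theorem uV_47502 : Upto T.chkV 47502 := upto_add uV_47268 rfl cV_47268
theorem uV_47736 : Upto T.chkV 47736 := upto_add uV_47502 rfl cV_47502
theorem uV_47970 : Upto T.chkV 47970 := upto_add uV_47736 rfl cV_47736
theorem uV_48204 : Upto T.chkV 48204 := upto_add uV_47970 rfl cV_47970
theorem uV_48438 : Upto T.chkV 48438 := upto_add uV_48204 rfl cV_48204
theorem uV_48672 : Upto T.chkV 48672 := upto_add uV_48438 rfl cV_48438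
theorem uV_48906 : Upto T.chkV 48906 := upto_add uV_48672 rfl cV_48672
theorem uV_49140 : Upto T.chkV 49140 := upto_add uV_48906 rfl cV_48906
theorem uV_49374 : Upto T.chkV 49374 := upto_add uV_49140 rfl cV_49140
theorem uV_49608 : Upto T.chkV 49608 := upto_add uV_49374 rfl cV_49374
theorem uV_49842 : Upto T.chkV 49842 := upto_add uV_49608 rfl cV_49608
theorem uV_50076 : Upto T.chkV 50076 := upto_add uV_49842 rfl cV_49842
theorem uV_50310 : Upto T.chkV 50310 := upto_add uV_50076 rfl cV_50076
theorem uV_50544 : Upto T.chkV 50544 := upto_add uV_50310 rfl cV_50310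
theorem uV_50778 : Upto T.chkV 50778 := upto_add uV_50544 rfl cV_50544
theorem uV_51012 : Upto T.chkV 51012 := upto_add uV_50778 rfl cV_50778
theorem uV_51246 : Upto T.chkV 51246 := upto_add uV_51012 rfl cV_51012
theorem uV_51480 : Upto T.chkV 51480 := upto_add uV_51246 rfl cV_51246
theorem uV_51714 : Upto T.chkV 51714 := upto_add uV_51480 rfl cV_51480
theorem uV_51948 : Upto T.chkV 51948 := upto_add uV_51714 rfl cV_51714
theorem uV_52182 : Upto T.chkV 52182 := upto_add uV_51948 rfl cV_51948
theorem uV_52416 : Upto T.chkV 52416 := upto_add uV_52182 rfl cV_52182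
theorem uV_52650 : Upto T.chkV 52650 := upto_add uV_52416 rfl cV_52416
theorem uV_52884 : Upto T.chkV 52884 := upto_add uV_52650 rfl cV_52650
theorem uV_53118 : Upto T.chkV 53118 := upto_add uV_52884 rfl cV_52884
theorem uV_53352 : Upto T.chkV 53352 := upto_add uV_53118 rfl cV_53118
theorem uV_53586 : Upto T.chkV 53586 := upto_add uV_53352 rfl cV_53352
theorem uV_53820 : Upto T.chkV 53820 := upto_add uV_53586 rfl cV_53586
theorem uV_54054 : Upto T.chkV 54054 := upto_add uV_53820 rfl cV_53820
theorem uV_54288 : Upto T.chkV 54288 := upto_add uV_54054 rfl cV_54054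
theorem uV_54522 : Upto T.chkV 54522 := upto_add uV_54288 rfl cV_54288
theorem uV_54756 : Upto T.chkV 54756 := upto_add uV_54522 rfl cV_54522
theorem uV_54990 : Upto T.chkV 54990 := upto_add uV_54756 rfl cV_54756
theorem uV_55224 : Upto T.chkV 55224 := upto_add uV_54990 rfl cV_54990
theorem uV_55458 : Upto T.chkV 55458 := upto_add uV_55224 rfl cV_55224
theorem uV_55692 : Upto T.chkV 55692 := upto_add uV_55458 rfl cV_55458
theorem uV_55926 : Upto T.chkV 55926 := upto_add uV_55692 rfl cV_55692
theorem uV_56160 : Upto T.chkV 56160 := upto_add uV_55926 rfl cV_55926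
theorem uV_56394 : Upto T.chkV 56394 := upto_add uV_56160 rfl cV_56160
theorem uV_56628 : Upto T.chkV 56628 := upto_add uV_56394 rfl cV_56394
theorem uV_56862 : Upto T.chkV 56862 := upto_add uV_56628 rfl cV_56628
theorem uV_57096 : Upto T.chkV 57096 := upto_add uV_56862 rfl cV_56862
theorem uV_57330 : Upto T.chkV 57330 := upto_add uV_57096 rfl cV_57096
theorem uV_57564 : Upto T.chkV 57564 := upto_add uV_57330 rfl cV_57330
theorem uV_57798 : Upto T.chkV 57798 := upto_add uV_57564 rfl cV_57564
theorem uV_58032 : Upto T.chkV 58032 := upto_add uV_57798 rfl cV_57798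
theorem uV_58266 : Upto T.chkV 58266 := upto_add uV_58032 rfl cV_58032
theorem uV_58500 : Upto T.chkV 58500 := upto_add uV_58266 rfl cV_58266
theorem uV_58734 : Upto T.chkV 58734 := upto_add uV_58500 rfl cV_58500
theorem uV_58968 : Upto T.chkV 58968 := upto_add uV_58734 rfl cV_58734
theorem uV_59202 : Upto T.chkV 59202 := upto_add uV_58968 rfl cV_58968
theorem uV_59436 : Upto T.chkV 59436 := upto_add uV_59202 rfl cV_59202
theorem uV_59670 : Upto T.chkV 59670 := upto_add uV_59436 rfl cV_59436
theorem uV_59904 : Upto T.chkV 59904 := upto_add uV_59670 rfl cV_59670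
theorem uV_60138 : Upto T.chkV 60138 := upto_add uV_59904 rfl cV_59904
theorem uV_60372 : Upto T.chkV 60372 := upto_add uV_60138 rfl cV_60138
theorem uV_60606 : Upto T.chkV 60606 := upto_add uV_60372 rfl cV_60372
theorem uV_60840 : Upto T.chkV 60840 := upto_add uV_60606 rfl cV_60606
theorem uV_61074 : Upto T.chkV 61074 := upto_add uV_60840 rfl cV_60840
theorem uV_61308 : Upto T.chkV 61308 := upto_add uV_61074 rfl cV_61074
theorem uV_61542 : Upto T.chkV 61542 := upto_add uV_61308 rfl cV_61308
theorem uV_61776 : Upto T.chkV 61776 := upto_add uV_61542 rfl cV_61542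
theorem uV_62010 : Upto T.chkV 62010 := upto_add uV_61776 rfl cV_61776
theorem uV_62244 : Upto T.chkV 62244 := upto_add uV_62010 rfl cV_62010
theorem uV_62478 : Upto T.chkV 62478 := upto_add uV_62244 rfl cV_62244
theorem uV_62712 : Upto T.chkV 62712 := upto_add uV_62478 rfl cV_62478
theorem uV_62946 : Upto T.chkV 62946 := upto_add uV_62712 rfl cV_62712
theorem uV_63180 : Upto T.chkV 63180 := upto_add uV_62946 rfl cV_62946
theorem uV_63414 : Upto T.chkV 63414 := upto_add uV_63180 rfl cV_63180
theorem uV_63648 : Upto T.chkV 63648 := upto_add uV_63414 rfl cV_63414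
theorem uV_63882 : Upto T.chkV 63882 := upto_add uV_63648 rfl cV_63648
theorem uV_64116 : Upto T.chkV 64116 := upto_add uV_63882 rfl cV_63882
theorem uV_64350 : Upto T.chkV 64350 := upto_add uV_64116 rfl cV_64116
theorem uV_64584 : Upto T.chkV 64584 := upto_add uV_64350 rfl cV_64350
theorem uV_64818 : Upto T.chkV 64818 := upto_add uV_64584 rfl cV_64584
theorem uV_65052 : Upto T.chkV 65052 := upto_add uV_64818 rfl cV_64818
theorem uV_65286 : Upto T.chkV 65286 := upto_add uV_65052 rfl cV_65052
theorem uV_65520 : Upto T.chkV 65520 := upto_add uV_65286 rfl cV_65286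
theorem uV_65754 : Upto T.chkV 65754 := upto_add uV_65520 rfl cV_65520
theorem uV_65988 : Upto T.chkV 65988 := upto_add uV_65754 rfl cV_65754
theorem uV_66222 : Upto T.chkV 66222 := upto_add uV_65988 rfl cV_65988
theorem uV_66456 : Upto T.chkV 66456 := upto_add uV_66222 rfl cV_66222
theorem uV_66690 : Upto T.chkV 66690 := upto_add uV_66456 rfl cV_66456
theorem uV_66924 : Upto T.chkV 66924 := upto_add uV_66690 rfl cV_66690
theorem uV_67158 : Upto T.chkV 67158 := upto_add uV_66924 rfl cV_66924
theorem uV_67392 : Upto T.chkV 67392 := upto_add uV_67158 rfl cV_67158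
theorem uV_67626 : Upto T.chkV 67626 := upto_add uV_67392 rfl cV_67392
theorem uV_67860 : Upto T.chkV 67860 := upto_add uV_67626 rfl cV_67626
theorem uV_68094 : Upto T.chkV 68094 := upto_add uV_67860 rfl cV_67860
theorem uV_68328 : Upto T.chkV 68328 := upto_add uV_68094 rfl cV_68094
theorem uV_68562 : Upto T.chkV 68562 := upto_add uV_68328 rfl cV_68328
theorem uV_68796 : Upto T.chkV 68796 := upto_add uV_68562 rfl cV_68562
theorem uV_69030 : Upto T.chkV 69030 := upto_add uV_68796 rfl cV_68796
theorem uV_69264 : Upto T.chkV 69264 := upto_add uV_69030 rfl cV_69030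
theorem uV_69498 : Upto T.chkV 69498 := upto_add uV_69264 rfl cV_69264
theorem uV_69732 : Upto T.chkV 69732 := upto_add uV_69498 rfl cV_69498
theorem uV_69966 : Upto T.chkV 69966 := upto_add uV_69732 rfl cV_69732
theorem uV_70200 : Upto T.chkV 70200 := upto_add uV_69966 rfl cV_69966
theorem uV_70434 : Upto T.chkV 70434 := upto_add uV_70200 rfl cV_70200
theorem uV_70668 : Upto T.chkV 70668 := upto_add uV_70434 rfl cV_70434
theorem uV_70902 : Upto T.chkV 70902 := upto_add uV_70668 rfl cV_70668
theorem uV_71136 : Upto T.chkV 71136 := upto_add uV_70902 rfl cV_70902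
theorem uV_71370 : Upto T.chkV 71370 := upto_add uV_71136 rfl cV_71136
theorem uV_71604 : Upto T.chkV 71604 := upto_add uV_71370 rfl cV_71370
theorem uV_71838 : Upto T.chkV 71838 := upto_add uV_71604 rfl cV_71604
theorem uV_72072 : Upto T.chkV 72072 := upto_add uV_71838 rfl cV_71838
theorem uV_72306 : Upto T.chkV 72306 := upto_add uV_72072 rfl cV_72072
theorem uV_72540 : Upto T.chkV 72540 := upto_add uV_72306 rfl cV_72306
theorem uV_72774 : Upto T.chkV 72774 := upto_add uV_72540 rfl cV_72540
theorem uV_73008 : Upto T.chkV 73008 := upto_add uV_72774 rfl cV_72774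
theorem uV_73242 : Upto T.chkV 73242 := upto_add uV_73008 rfl cV_73008
theorem uV_73476 : Upto T.chkV 73476 := upto_add uV_73242 rfl cV_73242
theorem uV_73710 : Upto T.chkV 73710 := upto_add uV_73476 rfl cV_73476
theorem uV_73944 : Upto T.chkV 73944 := upto_add uV_73710 rfl cV_73710
theorem uV_74178 : Upto T.chkV 74178 := upto_add uV_73944 rfl cV_73944
theorem uV_74412 : Upto T.chkV 74412 := upto_add uV_74178 rfl cV_74178
theorem uV_74646 : Upto T.chkV 74646 := upto_add uV_74412 rfl cV_74412
theorem uV_74880 : Upto T.chkV 74880 := upto_add uV_74646 rfl cV_74646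
theorem uV_75114 : Upto T.chkV 75114 := upto_add uV_74880 rfl cV_74880
theorem uV_75348 : Upto T.chkV 75348 := upto_add uV_75114 rfl cV_75114
theorem uV_75582 : Upto T.chkV 75582 := upto_add uV_75348 rfl cV_75348
theorem uV_75816 : Upto T.chkV 75816 := upto_add uV_75582 rfl cV_75582
theorem uV_76050 : Upto T.chkV 76050 := upto_add uV_75816 rfl cV_75816
theorem uV_76284 : Upto T.chkV 76284 := upto_add uV_76050 rfl cV_76050
theorem uV_76518 : Upto T.chkV 76518 := upto_add uV_76284 rfl cV_76284
theorem uV_76752 : Upto T.chkV 76752 := upto_add uV_76518 rfl cV_76518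
theorem uV_76986 : Upto T.chkV 76986 := upto_add uV_76752 rfl cV_76752
theorem uV_77220 : Upto T.chkV 77220 := upto_add uV_76986 rfl cV_76986
theorem uV_77454 : Upto T.chkV 77454 := upto_add uV_77220 rfl cV_77220
theorem uV_77688 : Upto T.chkV 77688 := upto_add uV_77454 rfl cV_77454
theorem uV_77922 : Upto T.chkV 77922 := upto_add uV_77688 rfl cV_77688
theorem uV_78156 : Upto T.chkV 78156 := upto_add uV_77922 rfl cV_77922
theorem uV_78390 : Upto T.chkV 78390 := upto_add uV_78156 rfl cV_78156
theorem uV_78624 : Upto T.chkV 78624 := upto_add uV_78390 rfl cV_78390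
theorem uV_78858 : Upto T.chkV 78858 := upto_add uV_78624 rfl cV_78624
theorem uV_79092 : Upto T.chkV 79092 := upto_add uV_78858 rfl cV_78858
theorem uV_79326 : Upto T.chkV 79326 := upto_add uV_79092 rfl cV_79092
theorem uV_79560 : Upto T.chkV 79560 := upto_add uV_79326 rfl cV_79326
theorem uV_79794 : Upto T.chkV 79794 := upto_add uV_79560 rfl cV_79560
theorem uV_80028 : Upto T.chkV 80028 := upto_add uV_79794 rfl cV_79794
theorem uV_80262 : Upto T.chkV 80262 := upto_add uV_80028 rfl cV_80028
theorem uV_80496 : Upto T.chkV 80496 := upto_add uV_80262 rfl cV_80262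
theorem uV_80730 : Upto T.chkV 80730 := upto_add uV_80496 rfl cV_80496
theorem uV_80964 : Upto T.chkV 80964 := upto_add uV_80730 rfl cV_80730
theorem uV_81198 : Upto T.chkV 81198 := upto_add uV_80964 rfl cV_80964
theorem uV_81432 : Upto T.chkV 81432 := upto_add uV_81198 rfl cV_81198
theorem uV_81666 : Upto T.chkV 81666 := upto_add uV_81432 rfl cV_81432
theorem uV_81900 : Upto T.chkV 81900 := upto_add uV_81666 rfl cV_81666
theorem uV_82134 : Upto T.chkV 82134 := upto_add uV_81900 rfl cV_81900
theorem uV_82368 : Upto T.chkV 82368 := upto_add uV_82134 rfl cV_82134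
theorem uV_82602 : Upto T.chkV 82602 := upto_add uV_82368 rfl cV_82368
theorem uV_82836 : Upto T.chkV 82836 := upto_add uV_82602 rfl cV_82602
theorem uV_83070 : Upto T.chkV 83070 := upto_add uV_82836 rfl cV_82836
theorem uV_83304 : Upto T.chkV 83304 := upto_add uV_83070 rfl cV_83070
theorem uV_83538 : Upto T.chkV 83538 := upto_add uV_83304 rfl cV_83304
theorem uV_83772 : Upto T.chkV 83772 := upto_add uV_83538 rfl cV_83538
theorem uV_84006 : Upto T.chkV 84006 := upto_add uV_83772 rfl cV_83772
theorem uV_84240 : Upto T.chkV 84240 := upto_add uV_84006 rfl cV_84006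
theorem uV_84474 : Upto T.chkV 84474 := upto_add uV_84240 rfl cV_84240
theorem uV_84708 : Upto T.chkV 84708 := upto_add uV_84474 rfl cV_84474
theorem uV_84942 : Upto T.chkV 84942 := upto_add uV_84708 rfl cV_84708
theorem uV_85176 : Upto T.chkV 85176 := upto_add uV_84942 rfl cV_84942
theorem uV_85410 : Upto T.chkV 85410 := upto_add uV_85176 rfl cV_85176
theorem uV_85644 : Upto T.chkV 85644 := upto_add uV_85410 rfl cV_85410
theorem uV_85878 : Upto T.chkV 85878 := upto_add uV_85644 rfl cV_85644
theorem uV_86112 : Upto T.chkV 86112 := upto_add uV_85878 rfl cV_85878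
theorem uV_86346 : Upto T.chkV 86346 := upto_add uV_86112 rfl cV_86112
theorem uV_86580 : Upto T.chkV 86580 := upto_add uV_86346 rfl cV_86346
theorem uV_86814 : Upto T.chkV 86814 := upto_add uV_86580 rfl cV_86580
theorem uV_87048 : Upto T.chkV 87048 := upto_add uV_86814 rfl cV_86814
theorem uV_87282 : Upto T.chkV 87282 := upto_add uV_87048 rfl cV_87048
theorem uV_87516 : Upto T.chkV 87516 := upto_add uV_87282 rfl cV_87282
theorem uV_87750 : Upto T.chkV 87750 := upto_add uV_87516 rfl cV_87516
theorem uV_87984 : Upto T.chkV 87984 := upto_add uV_87750 rfl cV_87750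
theorem uV_88218 : Upto T.chkV 88218 := upto_add uV_87984 rfl cV_87984
theorem uV_88452 : Upto T.chkV 88452 := upto_add uV_88218 rfl cV_88218
theorem uV_88686 : Upto T.chkV 88686 := upto_add uV_88452 rfl cV_88452
theorem uV_88920 : Upto T.chkV 88920 := upto_add uV_88686 rfl cV_88686
theorem uV_89154 : Upto T.chkV 89154 := upto_add uV_88920 rfl cV_88920
theorem uV_89388 : Upto T.chkV 89388 := upto_add uV_89154 rfl cV_89154
theorem uV_89622 : Upto T.chkV 89622 := upto_add uV_89388 rfl cV_89388
theorem uV_89856 : Upto T.chkV 89856 := upto_add uV_89622 rfl cV_89622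
theorem uV_90090 : Upto T.chkV 90090 := upto_add uV_89856 rfl cV_89856
theorem uV_90324 : Upto T.chkV 90324 := upto_add uV_90090 rfl cV_90090
theorem uV_90558 : Upto T.chkV 90558 := upto_add uV_90324 rfl cV_90324
theorem uV_90792 : Upto T.chkV 90792 := upto_add uV_90558 rfl cV_90558
theorem uV_91026 : Upto T.chkV 91026 := upto_add uV_90792 rfl cV_90792
theorem uV_91260 : Upto T.chkV 91260 := upto_add uV_91026 rfl cV_91026
theorem uV_91494 : Upto T.chkV 91494 := upto_add uV_91260 rfl cV_91260
theorem uV_91728 : Upto T.chkV 91728 := upto_add uV_91494 rfl cV_91494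
theorem uV_91962 : Upto T.chkV 91962 := upto_add uV_91728 rfl cV_91728
theorem uV_92196 : Upto T.chkV 92196 := upto_add uV_91962 rfl cV_91962
theorem uV_92430 : Upto T.chkV 92430 := upto_add uV_92196 rfl cV_92196
theorem uV_92664 : Upto T.chkV 92664 := upto_add uV_92430 rfl cV_92430
theorem uV_92898 : Upto T.chkV 92898 := upto_add uV_92664 rfl cV_92664
theorem uV_93132 : Upto T.chkV 93132 := upto_add uV_92898 rfl cV_92898
theorem uV_93366 : Upto T.chkV 93366 := upto_add uV_93132 rfl cV_93132
theorem uV_93600 : Upto T.chkV 93600 := upto_add uV_93366 rfl cV_93366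
theorem uV_93834 : Upto T.chkV 93834 := upto_add uV_93600 rfl cV_93600
theorem uV_94068 : Upto T.chkV 94068 := upto_add uV_93834 rfl cV_93834
theorem uV_94302 : Upto T.chkV 94302 := upto_add uV_94068 rfl cV_94068
theorem uV_94536 : Upto T.chkV 94536 := upto_add uV_94302 rfl cV_94302
theorem uV_94770 : Upto T.chkV 94770 := upto_add uV_94536 rfl cV_94536
theorem uV_95004 : Upto T.chkV 95004 := upto_add uV_94770 rfl cV_94770
theorem uV_95238 : Upto T.chkV 95238 := upto_add uV_95004 rfl cV_95004
theorem uV_95472 : Upto T.chkV 95472 := upto_add uV_95238 rfl cV_95238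
theorem uV_95706 : Upto T.chkV 95706 := upto_add uV_95472 rfl cV_95472
theorem uV_95940 : Upto T.chkV 95940 := upto_add uV_95706 rfl cV_95706
theorem uV_96174 : Upto T.chkV 96174 := upto_add uV_95940 rfl cV_95940
theorem uV_96408 : Upto T.chkV 96408 := upto_add uV_96174 rfl cV_96174
theorem uV_96642 : Upto T.chkV 96642 := upto_add uV_96408 rfl cV_96408
theorem uV_96876 : Upto T.chkV 96876 := upto_add uV_96642 rfl cV_96642
theorem uV_97110 : Upto T.chkV 97110 := upto_add uV_96876 rfl cV_96876
theorem uV_97344 : Upto T.chkV 97344 := upto_add uV_97110 rfl cV_97110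
theorem uV_97578 : Upto T.chkV 97578 := upto_add uV_97344 rfl cV_97344
theorem uV_97812 : Upto T.chkV 97812 := upto_add uV_97578 rfl cV_97578
theorem uV_98046 : Upto T.chkV 98046 := upto_add uV_97812 rfl cV_97812
theorem uV_98280 : Upto T.chkV 98280 := upto_add uV_98046 rfl cV_98046
theorem uV_98514 : Upto T.chkV 98514 := upto_add uV_98280 rfl cV_98280
theorem uV_98748 : Upto T.chkV 98748 := upto_add uV_98514 rfl cV_98514
theorem uV_98982 : Upto T.chkV 98982 := upto_add uV_98748 rfl cV_98748
theorem uV_99216 : Upto T.chkV 99216 := upto_add uV_98982 rfl cV_98982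
theorem uV_99450 : Upto T.chkV 99450 := upto_add uV_99216 rfl cV_99216
theorem uV_99684 : Upto T.chkV 99684 := upto_add uV_99450 rfl cV_99450
theorem uV_99918 : Upto T.chkV 99918 := upto_add uV_99684 rfl cV_99684
theorem uV_100152 : Upto T.chkV 100152 := upto_add uV_99918 rfl cV_99918
theorem uV_100386 : Upto T.chkV 100386 := upto_add uV_100152 rfl cV_100152
theorem uV_100620 : Upto T.chkV 100620 := upto_add uV_100386 rfl cV_100386
theorem uV_100854 : Upto T.chkV 100854 := upto_add uV_100620 rfl cV_100620
theorem uV_101088 : Upto T.chkV 101088 := upto_add uV_100854 rfl cV_100854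
theorem uV_101322 : Upto T.chkV 101322 := upto_add uV_101088 rfl cV_101088
theorem uV_101556 : Upto T.chkV 101556 := upto_add uV_101322 rfl cV_101322
theorem uV_101790 : Upto T.chkV 101790 := upto_add uV_101556 rfl cV_101556
theorem uV_102024 : Upto T.chkV 102024 := upto_add uV_101790 rfl cV_101790
theorem uV_102258 : Upto T.chkV 102258 := upto_add uV_102024 rfl cV_102024
theorem uV_102492 : Upto T.chkV 102492 := upto_add uV_102258 rfl cV_102258
theorem uV_102726 : Upto T.chkV 102726 := upto_add uV_102492 rfl cV_102492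
theorem uV_102960 : Upto T.chkV 102960 := upto_add uV_102726 rfl cV_102726
theorem uV_103194 : Upto T.chkV 103194 := upto_add uV_102960 rfl cV_102960
theorem uV_103428 : Upto T.chkV 103428 := upto_add uV_103194 rfl cV_103194
theorem uV_103662 : Upto T.chkV 103662 := upto_add uV_103428 rfl cV_103428
theorem uV_103896 : Upto T.chkV 103896 := upto_add uV_103662 rfl cV_103662
theorem uV_104130 : Upto T.chkV 104130 := upto_add uV_103896 rfl cV_103896
theorem uV_104364 : Upto T.chkV 104364 := upto_add uV_104130 rfl cV_104130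
theorem uV_104598 : Upto T.chkV 104598 := upto_add uV_104364 rfl cV_104364
theorem uV_104832 : Upto T.chkV 104832 := upto_add uV_104598 rfl cV_104598
theorem uV_105066 : Upto T.chkV 105066 := upto_add uV_104832 rfl cV_104832
theorem uV_105300 : Upto T.chkV 105300 := upto_add uV_105066 rfl cV_105066
theorem uV_105534 : Upto T.chkV 105534 := upto_add uV_105300 rfl cV_105300
theorem uV_105768 : Upto T.chkV 105768 := upto_add uV_105534 rfl cV_105534
theorem uV_106002 : Upto T.chkV 106002 := upto_add uV_105768 rfl cV_105768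
theorem uV_106236 : Upto T.chkV 106236 := upto_add uV_106002 rfl cV_106002
theorem uV_106470 : Upto T.chkV 106470 := upto_add uV_106236 rfl cV_106236
theorem uV_106704 : Upto T.chkV 106704 := upto_add uV_106470 rfl cV_106470
theorem uV_106938 : Upto T.chkV 106938 := upto_add uV_106704 rfl cV_106704
theorem uV_107172 : Upto T.chkV 107172 := upto_add uV_106938 rfl cV_106938
theorem uV_107406 : Upto T.chkV 107406 := upto_add uV_107172 rfl cV_107172
theorem uV_107640 : Upto T.chkV 107640 := upto_add uV_107406 rfl cV_107406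
theorem uV_107874 : Upto T.chkV 107874 := upto_add uV_107640 rfl cV_107640
theorem uV_108108 : Upto T.chkV 108108 := upto_add uV_107874 rfl cV_107874
theorem uV_108342 : Upto T.chkV 108342 := upto_add uV_108108 rfl cV_108108
theorem uV_108576 : Upto T.chkV 108576 := upto_add uV_108342 rfl cV_108342
theorem uV_108810 : Upto T.chkV 108810 := upto_add uV_108576 rfl cV_108576
theorem uV_109044 : Upto T.chkV 109044 := upto_add uV_108810 rfl cV_108810
theorem uV_109278 : Upto T.chkV 109278 := upto_add uV_109044 rfl cV_109044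
theorem uV_109512 : Upto T.chkV 109512 := upto_add uV_109278 rfl cV_109278
theorem uV_109746 : Upto T.chkV 109746 := upto_add uV_109512 rfl cV_109512
theorem uV_109980 : Upto T.chkV 109980 := upto_add uV_109746 rfl cV_109746
theorem uV_110214 : Upto T.chkV 110214 := upto_add uV_109980 rfl cV_109980
theorem uV_110448 : Upto T.chkV 110448 := upto_add uV_110214 rfl cV_110214
theorem uV_110682 : Upto T.chkV 110682 := upto_add uV_110448 rfl cV_110448
theorem uV_110916 : Upto T.chkV 110916 := upto_add uV_110682 rfl cV_110682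
theorem uV_111150 : Upto T.chkV 111150 := upto_add uV_110916 rfl cV_110916
theorem uV_111384 : Upto T.chkV 111384 := upto_add uV_111150 rfl cV_111150
theorem uV_111618 : Upto T.chkV 111618 := upto_add uV_111384 rfl cV_111384
theorem uV_111852 : Upto T.chkV 111852 := upto_add uV_111618 rfl cV_111618
theorem uV_112086 : Upto T.chkV 112086 := upto_add uV_111852 rfl cV_111852
theorem uV_112320 : Upto T.chkV 112320 := upto_add uV_112086 rfl cV_112086
theorem uV_112554 : Upto T.chkV 112554 := upto_add uV_112320 rfl cV_112320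
theorem uV_112788 : Upto T.chkV 112788 := upto_add uV_112554 rfl cV_112554
theorem uV_113022 : Upto T.chkV 113022 := upto_add uV_112788 rfl cV_112788
theorem uV_113256 : Upto T.chkV 113256 := upto_add uV_113022 rfl cV_113022
theorem uV_113490 : Upto T.chkV 113490 := upto_add uV_113256 rfl cV_113256
theorem uV_113724 : Upto T.chkV 113724 := upto_add uV_113490 rfl cV_113490
theorem uV_113958 : Upto T.chkV 113958 := upto_add uV_113724 rfl cV_113724
theorem uV_114192 : Upto T.chkV 114192 := upto_add uV_113958 rfl cV_113958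
theorem uV_114426 : Upto T.chkV 114426 := upto_add uV_114192 rfl cV_114192
theorem uV_114660 : Upto T.chkV 114660 := upto_add uV_114426 rfl cV_114426
theorem uV_114894 : Upto T.chkV 114894 := upto_add uV_114660 rfl cV_114660
theorem uV_115128 : Upto T.chkV 115128 := upto_add uV_114894 rfl cV_114894
theorem uV_115362 : Upto T.chkV 115362 := upto_add uV_115128 rfl cV_115128
theorem uV_115596 : Upto T.chkV 115596 := upto_add uV_115362 rfl cV_115362
theorem uV_115830 : Upto T.chkV 115830 := upto_add uV_115596 rfl cV_115596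
theorem uV_116064 : Upto T.chkV 116064 := upto_add uV_115830 rfl cV_115830
theorem uV_116298 : Upto T.chkV 116298 := upto_add uV_116064 rfl cV_116064
theorem uV_116532 : Upto T.chkV 116532 := upto_add uV_116298 rfl cV_116298
theorem uV_116766 : Upto T.chkV 116766 := upto_add uV_116532 rfl cV_116532
theorem uV_117000 : Upto T.chkV 117000 := upto_add uV_116766 rfl cV_116766
theorem uV_117234 : Upto T.chkV 117234 := upto_add uV_117000 rfl cV_117000
theorem uV_117468 : Upto T.chkV 117468 := upto_add uV_117234 rfl cV_117234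
theorem uV_117702 : Upto T.chkV 117702 := upto_add uV_117468 rfl cV_117468
theorem uV_117936 : Upto T.chkV 117936 := upto_add uV_117702 rfl cV_117702
theorem uV_118170 : Upto T.chkV 118170 := upto_add uV_117936 rfl cV_117936
theorem uV_118404 : Upto T.chkV 118404 := upto_add uV_118170 rfl cV_118170
theorem uV_118638 : Upto T.chkV 118638 := upto_add uV_118404 rfl cV_118404
theorem uV_118872 : Upto T.chkV 118872 := upto_add uV_118638 rfl cV_118638
theorem uV_119106 : Upto T.chkV 119106 := upto_add uV_118872 rfl cV_118872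
theorem uV_119340 : Upto T.chkV 119340 := upto_add uV_119106 rfl cV_119106
theorem uV_119574 : Upto T.chkV 119574 := upto_add uV_119340 rfl cV_119340
theorem uV_119808 : Upto T.chkV 119808 := upto_add uV_119574 rfl cV_119574
theorem uV_120042 : Upto T.chkV 120042 := upto_add uV_119808 rfl cV_119808
theorem uV_120276 : Upto T.chkV 120276 := upto_add uV_120042 rfl cV_120042
theorem uV_120510 : Upto T.chkV 120510 := upto_add uV_120276 rfl cV_120276
theorem uV_120744 : Upto T.chkV 120744 := upto_add uV_120510 rfl cV_120510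
theorem uV_120978 : Upto T.chkV 120978 := upto_add uV_120744 rfl cV_120744
theorem uV_121212 : Upto T.chkV 121212 := upto_add uV_120978 rfl cV_120978
theorem uV_121446 : Upto T.chkV 121446 := upto_add uV_121212 rfl cV_121212
theorem uV_121680 : Upto T.chkV 121680 := upto_add uV_121446 rfl cV_121446
theorem uV_121914 : Upto T.chkV 121914 := upto_add uV_121680 rfl cV_121680
theorem uV_122148 : Upto T.chkV 122148 := upto_add uV_121914 rfl cV_121914
theorem uV_122382 : Upto T.chkV 122382 := upto_add uV_122148 rfl cV_122148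
theorem uV_122616 : Upto T.chkV 122616 := upto_add uV_122382 rfl cV_122382
theorem uV_122850 : Upto T.chkV 122850 := upto_add uV_122616 rfl cV_122616
theorem uV_123084 : Upto T.chkV 123084 := upto_add uV_122850 rfl cV_122850
theorem uV_123318 : Upto T.chkV 123318 := upto_add uV_123084 rfl cV_123084
theorem uV_123552 : Upto T.chkV 123552 := upto_add uV_123318 rfl cV_123318
theorem uV_123786 : Upto T.chkV 123786 := upto_add uV_123552 rfl cV_123552
theorem uV_124020 : Upto T.chkV 124020 := upto_add uV_123786 rfl cV_123786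
theorem uV_124254 : Upto T.chkV 124254 := upto_add uV_124020 rfl cV_124020
theorem uV_124488 : Upto T.chkV 124488 := upto_add uV_124254 rfl cV_124254
theorem uV_124722 : Upto T.chkV 124722 := upto_add uV_124488 rfl cV_124488
theorem uV_124956 : Upto T.chkV 124956 := upto_add uV_124722 rfl cV_124722
theorem uV_125190 : Upto T.chkV 125190 := upto_add uV_124956 rfl cV_124956
theorem uV_125424 : Upto T.chkV 125424 := upto_add uV_125190 rfl cV_125190
theorem uV_125658 : Upto T.chkV 125658 := upto_add uV_125424 rfl cV_125424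
theorem uV_125892 : Upto T.chkV 125892 := upto_add uV_125658 rfl cV_125658
theorem uV_126126 : Upto T.chkV 126126 := upto_add uV_125892 rfl cV_125892
theorem uV_126360 : Upto T.chkV 126360 := upto_add uV_126126 rfl cV_126126
theorem uV_126594 : Upto T.chkV 126594 := upto_add uV_126360 rfl cV_126360
theorem uV_126828 : Upto T.chkV 126828 := upto_add uV_126594 rfl cV_126594
theorem uV_127062 : Upto T.chkV 127062 := upto_add uV_126828 rfl cV_126828
theorem uV_127296 : Upto T.chkV 127296 := upto_add uV_127062 rfl cV_127062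
theorem uV_127530 : Upto T.chkV 127530 := upto_add uV_127296 rfl cV_127296
theorem uV_127764 : Upto T.chkV 127764 := upto_add uV_127530 rfl cV_127530
theorem uV_127998 : Upto T.chkV 127998 := upto_add uV_127764 rfl cV_127764
theorem uV_128232 : Upto T.chkV 128232 := upto_add uV_127998 rfl cV_127998
theorem uV_128466 : Upto T.chkV 128466 := upto_add uV_128232 rfl cV_128232
theorem uV_128700 : Upto T.chkV 128700 := upto_add uV_128466 rfl cV_128466
theorem uV_128934 : Upto T.chkV 128934 := upto_add uV_128700 rfl cV_128700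
theorem uV_129168 : Upto T.chkV 129168 := upto_add uV_128934 rfl cV_128934
theorem uV_129402 : Upto T.chkV 129402 := upto_add uV_129168 rfl cV_129168
theorem uV_129636 : Upto T.chkV 129636 := upto_add uV_129402 rfl cV_129402
theorem uV_129870 : Upto T.chkV 129870 := upto_add uV_129636 rfl cV_129636
theorem uV_130104 : Upto T.chkV 130104 := upto_add uV_129870 rfl cV_129870
theorem uV_130338 : Upto T.chkV 130338 := upto_add uV_130104 rfl cV_130104
theorem uV_130572 : Upto T.chkV 130572 := upto_add uV_130338 rfl cV_130338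
theorem uV_130806 : Upto T.chkV 130806 := upto_add uV_130572 rfl cV_130572
theorem uV_131040 : Upto T.chkV 131040 := upto_add uV_130806 rfl cV_130806
theorem uV_131274 : Upto T.chkV 131274 := upto_add uV_131040 rfl cV_131040
theorem uV_131508 : Upto T.chkV 131508 := upto_add uV_131274 rfl cV_131274
theorem uV_131742 : Upto T.chkV 131742 := upto_add uV_131508 rfl cV_131508
theorem uV_131976 : Upto T.chkV 131976 := upto_add uV_131742 rfl cV_131742
theorem uV_132210 : Upto T.chkV 132210 := upto_add uV_131976 rfl cV_131976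
theorem uV_132444 : Upto T.chkV 132444 := upto_add uV_132210 rfl cV_132210
theorem uV_132678 : Upto T.chkV 132678 := upto_add uV_132444 rfl cV_132444
theorem uV_132912 : Upto T.chkV 132912 := upto_add uV_132678 rfl cV_132678
theorem uV_133146 : Upto T.chkV 133146 := upto_add uV_132912 rfl cV_132912
theorem uV_133380 : Upto T.chkV 133380 := upto_add uV_133146 rfl cV_133146
theorem uV_133614 : Upto T.chkV 133614 := upto_add uV_133380 rfl cV_133380
theorem uV_133848 : Upto T.chkV 133848 := upto_add uV_133614 rfl cV_133614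
theorem uV_134082 : Upto T.chkV 134082 := upto_add uV_133848 rfl cV_133848
theorem uV_134316 : Upto T.chkV 134316 := upto_add uV_134082 rfl cV_134082
theorem uV_134550 : Upto T.chkV 134550 := upto_add uV_134316 rfl cV_134316
theorem uV_134784 : Upto T.chkV 134784 := upto_add uV_134550 rfl cV_134550
theorem uV_135018 : Upto T.chkV 135018 := upto_add uV_134784 rfl cV_134784
theorem uV_135252 : Upto T.chkV 135252 := upto_add uV_135018 rfl cV_135018
theorem uV_135486 : Upto T.chkV 135486 := upto_add uV_135252 rfl cV_135252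
theorem uV_135720 : Upto T.chkV 135720 := upto_add uV_135486 rfl cV_135486
theorem uV_135954 : Upto T.chkV 135954 := upto_add uV_135720 rfl cV_135720
theorem uV_136188 : Upto T.chkV 136188 := upto_add uV_135954 rfl cV_135954
theorem uV_136422 : Upto T.chkV 136422 := upto_add uV_136188 rfl cV_136188
theorem uV_136656 : Upto T.chkV 136656 := upto_add uV_136422 rfl cV_136422
theorem uV_136890 : Upto T.chkV 136890 := upto_add uV_136656 rfl cV_136656
theorem uV_137124 : Upto T.chkV 137124 := upto_add uV_136890 rfl cV_136890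
theorem uV_137358 : Upto T.chkV 137358 := upto_add uV_137124 rfl cV_137124
theorem uV_137592 : Upto T.chkV 137592 := upto_add uV_137358 rfl cV_137358
theorem uV_137826 : Upto T.chkV 137826 := upto_add uV_137592 rfl cV_137592
theorem uV_138060 : Upto T.chkV 138060 := upto_add uV_137826 rfl cV_137826
theorem uV_138294 : Upto T.chkV 138294 := upto_add uV_138060 rfl cV_138060
theorem uV_138528 : Upto T.chkV 138528 := upto_add uV_138294 rfl cV_138294
theorem uV_138762 : Upto T.chkV 138762 := upto_add uV_138528 rfl cV_138528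
theorem uV_138996 : Upto T.chkV 138996 := upto_add uV_138762 rfl cV_138762
theorem uV_139230 : Upto T.chkV 139230 := upto_add uV_138996 rfl cV_138996
theorem uV_139464 : Upto T.chkV 139464 := upto_add uV_139230 rfl cV_139230
theorem uV_139698 : Upto T.chkV 139698 := upto_add uV_139464 rfl cV_139464
theorem uV_139932 : Upto T.chkV 139932 := upto_add uV_139698 rfl cV_139698
theorem uV_140166 : Upto T.chkV 140166 := upto_add uV_139932 rfl cV_139932
theorem uV_140400 : Upto T.chkV 140400 := upto_add uV_140166 rfl cV_140166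
theorem uV_140634 : Upto T.chkV 140634 := upto_add uV_140400 rfl cV_140400
theorem uV_140868 : Upto T.chkV 140868 := upto_add uV_140634 rfl cV_140634
theorem uV_141102 : Upto T.chkV 141102 := upto_add uV_140868 rfl cV_140868
theorem uV_141336 : Upto T.chkV 141336 := upto_add uV_141102 rfl cV_141102
theorem uV_141570 : Upto T.chkV 141570 := upto_add uV_141336 rfl cV_141336
theorem uV_141804 : Upto T.chkV 141804 := upto_add uV_141570 rfl cV_141570
theorem uV_142038 : Upto T.chkV 142038 := upto_add uV_141804 rfl cV_141804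
theorem uV_142272 : Upto T.chkV 142272 := upto_add uV_142038 rfl cV_142038
theorem uV_142506 : Upto T.chkV 142506 := upto_add uV_142272 rfl cV_142272
theorem uV_142740 : Upto T.chkV 142740 := upto_add uV_142506 rfl cV_142506
theorem uV_142974 : Upto T.chkV 142974 := upto_add uV_142740 rfl cV_142740
theorem uV_143208 : Upto T.chkV 143208 := upto_add uV_142974 rfl cV_142974
theorem uV_143442 : Upto T.chkV 143442 := upto_add uV_143208 rfl cV_143208
theorem uV_143676 : Upto T.chkV 143676 := upto_add uV_143442 rfl cV_143442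
theorem uV_143910 : Upto T.chkV 143910 := upto_add uV_143676 rfl cV_143676
theorem uV_144144 : Upto T.chkV 144144 := upto_add uV_143910 rfl cV_143910
theorem uV_144378 : Upto T.chkV 144378 := upto_add uV_144144 rfl cV_144144
theorem uV_144612 : Upto T.chkV 144612 := upto_add uV_144378 rfl cV_144378
theorem uV_144846 : Upto T.chkV 144846 := upto_add uV_144612 rfl cV_144612
theorem uV_145080 : Upto T.chkV 145080 := upto_add uV_144846 rfl cV_144846
theorem uV_145314 : Upto T.chkV 145314 := upto_add uV_145080 rfl cV_145080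
theorem uV_145548 : Upto T.chkV 145548 := upto_add uV_145314 rfl cV_145314
theorem uV_145782 : Upto T.chkV 145782 := upto_add uV_145548 rfl cV_145548
theorem uV_146016 : Upto T.chkV 146016 := upto_add uV_145782 rfl cV_145782
theorem uV_146250 : Upto T.chkV 146250 := upto_add uV_146016 rfl cV_146016
theorem uV_146484 : Upto T.chkV 146484 := upto_add uV_146250 rfl cV_146250
theorem uV_146718 : Upto T.chkV 146718 := upto_add uV_146484 rfl cV_146484
theorem uV_146952 : Upto T.chkV 146952 := upto_add uV_146718 rfl cV_146718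
theorem uV_147186 : Upto T.chkV 147186 := upto_add uV_146952 rfl cV_146952
theorem uV_147420 : Upto T.chkV 147420 := upto_add uV_147186 rfl cV_147186
theorem uV_147654 : Upto T.chkV 147654 := upto_add uV_147420 rfl cV_147420
theorem uV_147888 : Upto T.chkV 147888 := upto_add uV_147654 rfl cV_147654
theorem uV_148122 : Upto T.chkV 148122 := upto_add uV_147888 rfl cV_147888
theorem uV_148356 : Upto T.chkV 148356 := upto_add uV_148122 rfl cV_148122
theorem uV_148590 : Upto T.chkV 148590 := upto_add uV_148356 rfl cV_148356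
theorem uV_148824 : Upto T.chkV 148824 := upto_add uV_148590 rfl cV_148590
theorem uV_149058 : Upto T.chkV 149058 := upto_add uV_148824 rfl cV_148824
theorem uV_149292 : Upto T.chkV 149292 := upto_add uV_149058 rfl cV_149058
theorem uV_149526 : Upto T.chkV 149526 := upto_add uV_149292 rfl cV_149292
theorem uV_149760 : Upto T.chkV 149760 := upto_add uV_149526 rfl cV_149526
theorem uV_149994 : Upto T.chkV 149994 := upto_add uV_149760 rfl cV_149760
theorem uV_150228 : Upto T.chkV 150228 := upto_add uV_149994 rfl cV_149994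
theorem uV_150462 : Upto T.chkV 150462 := upto_add uV_150228 rfl cV_150228
theorem uV_150696 : Upto T.chkV 150696 := upto_add uV_150462 rfl cV_150462
theorem uV_150930 : Upto T.chkV 150930 := upto_add uV_150696 rfl cV_150696
theorem uV_151164 : Upto T.chkV 151164 := upto_add uV_150930 rfl cV_150930
theorem uV_151398 : Upto T.chkV 151398 := upto_add uV_151164 rfl cV_151164
theorem uV_151632 : Upto T.chkV 151632 := upto_add uV_151398 rfl cV_151398
theorem uV_151866 : Upto T.chkV 151866 := upto_add uV_151632 rfl cV_151632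
theorem uV_152100 : Upto T.chkV 152100 := upto_add uV_151866 rfl cV_151866
theorem uV_152334 : Upto T.chkV 152334 := upto_add uV_152100 rfl cV_152100
theorem uV_152568 : Upto T.chkV 152568 := upto_add uV_152334 rfl cV_152334
theorem uV_152802 : Upto T.chkV 152802 := upto_add uV_152568 rfl cV_152568
theorem uV_153036 : Upto T.chkV 153036 := upto_add uV_152802 rfl cV_152802
theorem uV_153270 : Upto T.chkV 153270 := upto_add uV_153036 rfl cV_153036
theorem uV_153504 : Upto T.chkV 153504 := upto_add uV_153270 rfl cV_153270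
theorem uV_153738 : Upto T.chkV 153738 := upto_add uV_153504 rfl cV_153504
theorem uV_153972 : Upto T.chkV 153972 := upto_add uV_153738 rfl cV_153738
theorem uV_154206 : Upto T.chkV 154206 := upto_add uV_153972 rfl cV_153972
theorem uV_154440 : Upto T.chkV 154440 := upto_add uV_154206 rfl cV_154206
theorem uV_154674 : Upto T.chkV 154674 := upto_add uV_154440 rfl cV_154440
theorem uV_154908 : Upto T.chkV 154908 := upto_add uV_154674 rfl cV_154674
theorem uV_155142 : Upto T.chkV 155142 := upto_add uV_154908 rfl cV_154908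
theorem uV_155376 : Upto T.chkV 155376 := upto_add uV_155142 rfl cV_155142
theorem uV_155610 : Upto T.chkV 155610 := upto_add uV_155376 rfl cV_155376
theorem uV_155844 : Upto T.chkV 155844 := upto_add uV_155610 rfl cV_155610
theorem uV_156078 : Upto T.chkV 156078 := upto_add uV_155844 rfl cV_155844
theorem uV_156312 : Upto T.chkV 156312 := upto_add uV_156078 rfl cV_156078
theorem uV_156546 : Upto T.chkV 156546 := upto_add uV_156312 rfl cV_156312
theorem uV_156780 : Upto T.chkV 156780 := upto_add uV_156546 rfl cV_156546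
theorem uV_157014 : Upto T.chkV 157014 := upto_add uV_156780 rfl cV_156780
theorem uV_157248 : Upto T.chkV 157248 := upto_add uV_157014 rfl cV_157014
theorem uV_157482 : Upto T.chkV 157482 := upto_add uV_157248 rfl cV_157248
theorem uV_157716 : Upto T.chkV 157716 := upto_add uV_157482 rfl cV_157482
theorem uV_157950 : Upto T.chkV 157950 := upto_add uV_157716 rfl cV_157716
theorem uV_158184 : Upto T.chkV 158184 := upto_add uV_157950 rfl cV_157950
theorem uV_158418 : Upto T.chkV 158418 := upto_add uV_158184 rfl cV_158184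
theorem uV_158652 : Upto T.chkV 158652 := upto_add uV_158418 rfl cV_158418
theorem uV_158886 : Upto T.chkV 158886 := upto_add uV_158652 rfl cV_158652
theorem uV_159120 : Upto T.chkV 159120 := upto_add uV_158886 rfl cV_158886
theorem uV_159354 : Upto T.chkV 159354 := upto_add uV_159120 rfl cV_159120
theorem uV_159588 : Upto T.chkV 159588 := upto_add uV_159354 rfl cV_159354
theorem uV_159822 : Upto T.chkV 159822 := upto_add uV_159588 rfl cV_159588
theorem uV_160056 : Upto T.chkV 160056 := upto_add uV_159822 rfl cV_159822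
theorem uV_160290 : Upto T.chkV 160290 := upto_add uV_160056 rfl cV_160056
theorem uV_160524 : Upto T.chkV 160524 := upto_add uV_160290 rfl cV_160290
theorem uV_160758 : Upto T.chkV 160758 := upto_add uV_160524 rfl cV_160524
theorem uV_160992 : Upto T.chkV 160992 := upto_add uV_160758 rfl cV_160758
theorem uV_161226 : Upto T.chkV 161226 := upto_add uV_160992 rfl cV_160992
theorem uV_161460 : Upto T.chkV 161460 := upto_add uV_161226 rfl cV_161226
theorem uV_161694 : Upto T.chkV 161694 := upto_add uV_161460 rfl cV_161460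
theorem uV_161928 : Upto T.chkV 161928 := upto_add uV_161694 rfl cV_161694
theorem uV_162162 : Upto T.chkV 162162 := upto_add uV_161928 rfl cV_161928
theorem uV_162396 : Upto T.chkV 162396 := upto_add uV_162162 rfl cV_162162
theorem uV_162630 : Upto T.chkV 162630 := upto_add uV_162396 rfl cV_162396
theorem uV_162864 : Upto T.chkV 162864 := upto_add uV_162630 rfl cV_162630
theorem uV_163098 : Upto T.chkV 163098 := upto_add uV_162864 rfl cV_162864
theorem uV_163332 : Upto T.chkV 163332 := upto_add uV_163098 rfl cV_163098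
theorem uV_163566 : Upto T.chkV 163566 := upto_add uV_163332 rfl cV_163332
theorem uV_163800 : Upto T.chkV 163800 := upto_add uV_163566 rfl cV_163566
theorem uV_164034 : Upto T.chkV 164034 := upto_add uV_163800 rfl cV_163800
theorem uV_164268 : Upto T.chkV 164268 := upto_add uV_164034 rfl cV_164034
theorem uV_164502 : Upto T.chkV 164502 := upto_add uV_164268 rfl cV_164268
theorem uV_164736 : Upto T.chkV 164736 := upto_add uV_164502 rfl cV_164502
theorem uV_164970 : Upto T.chkV 164970 := upto_add uV_164736 rfl cV_164736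
theorem uV_165204 : Upto T.chkV 165204 := upto_add uV_164970 rfl cV_164970
theorem uV_165438 : Upto T.chkV 165438 := upto_add uV_165204 rfl cV_165204
theorem uV_165672 : Upto T.chkV 165672 := upto_add uV_165438 rfl cV_165438
theorem uV_165906 : Upto T.chkV 165906 := upto_add uV_165672 rfl cV_165672
theorem uV_166140 : Upto T.chkV 166140 := upto_add uV_165906 rfl cV_165906
theorem uV_166374 : Upto T.chkV 166374 := upto_add uV_166140 rfl cV_166140
theorem uV_166608 : Upto T.chkV 166608 := upto_add uV_166374 rfl cV_166374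
theorem uV_166842 : Upto T.chkV 166842 := upto_add uV_166608 rfl cV_166608
theorem uV_167076 : Upto T.chkV 167076 := upto_add uV_166842 rfl cV_166842
theorem uV_167310 : Upto T.chkV 167310 := upto_add uV_167076 rfl cV_167076
theorem uV_167544 : Upto T.chkV 167544 := upto_add uV_167310 rfl cV_167310
theorem uV_167778 : Upto T.chkV 167778 := upto_add uV_167544 rfl cV_167544
theorem uV_168012 : Upto T.chkV 168012 := upto_add uV_167778 rfl cV_167778
theorem uV_168246 : Upto T.chkV 168246 := upto_add uV_168012 rfl cV_168012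
theorem uV_168480 : Upto T.chkV 168480 := upto_add uV_168246 rfl cV_168246
theorem uV_168714 : Upto T.chkV 168714 := upto_add uV_168480 rfl cV_168480
theorem uV_168948 : Upto T.chkV 168948 := upto_add uV_168714 rfl cV_168714
theorem uV_169182 : Upto T.chkV 169182 := upto_add uV_168948 rfl cV_168948
theorem uV_169416 : Upto T.chkV 169416 := upto_add uV_169182 rfl cV_169182
theorem uV_169650 : Upto T.chkV 169650 := upto_add uV_169416 rfl cV_169416
theorem uV_169884 : Upto T.chkV 169884 := upto_add uV_169650 rfl cV_169650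
theorem uV_170118 : Upto T.chkV 170118 := upto_add uV_169884 rfl cV_169884
theorem uV_170352 : Upto T.chkV 170352 := upto_add uV_170118 rfl cV_170118
theorem uV_170586 : Upto T.chkV 170586 := upto_add uV_170352 rfl cV_170352
theorem uV_170820 : Upto T.chkV 170820 := upto_add uV_170586 rfl cV_170586
theorem uV_171054 : Upto T.chkV 171054 := upto_add uV_170820 rfl cV_170820
theorem uV_171288 : Upto T.chkV 171288 := upto_add uV_171054 rfl cV_171054
theorem uV_171522 : Upto T.chkV 171522 := upto_add uV_171288 rfl cV_171288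
theorem uV_171756 : Upto T.chkV 171756 := upto_add uV_171522 rfl cV_171522
theorem uV_171990 : Upto T.chkV 171990 := upto_add uV_171756 rfl cV_171756
theorem uV_172224 : Upto T.chkV 172224 := upto_add uV_171990 rfl cV_171990
theorem uV_172458 : Upto T.chkV 172458 := upto_add uV_172224 rfl cV_172224
theorem uV_172692 : Upto T.chkV 172692 := upto_add uV_172458 rfl cV_172458
theorem uV_172926 : Upto T.chkV 172926 := upto_add uV_172692 rfl cV_172692
theorem uV_173160 : Upto T.chkV 173160 := upto_add uV_172926 rfl cV_172926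
theorem uV_173394 : Upto T.chkV 173394 := upto_add uV_173160 rfl cV_173160
theorem uV_173628 : Upto T.chkV 173628 := upto_add uV_173394 rfl cV_173394
theorem uV_173862 : Upto T.chkV 173862 := upto_add uV_173628 rfl cV_173628
theorem uV_174096 : Upto T.chkV 174096 := upto_add uV_173862 rfl cV_173862
theorem uV_174330 : Upto T.chkV 174330 := upto_add uV_174096 rfl cV_174096
theorem uV_174564 : Upto T.chkV 174564 := upto_add uV_174330 rfl cV_174330
theorem uV_174798 : Upto T.chkV 174798 := upto_add uV_174564 rfl cV_174564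
theorem uV_175032 : Upto T.chkV 175032 := upto_add uV_174798 rfl cV_174798
theorem uV_175266 : Upto T.chkV 175266 := upto_add uV_175032 rfl cV_175032
theorem uV_175500 : Upto T.chkV 175500 := upto_add uV_175266 rfl cV_175266
theorem uV_175734 : Upto T.chkV 175734 := upto_add uV_175500 rfl cV_175500
theorem uV_175968 : Upto T.chkV 175968 := upto_add uV_175734 rfl cV_175734
theorem uV_176202 : Upto T.chkV 176202 := upto_add uV_175968 rfl cV_175968
theorem uV_176436 : Upto T.chkV 176436 := upto_add uV_176202 rfl cV_176202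
theorem uV_176670 : Upto T.chkV 176670 := upto_add uV_176436 rfl cV_176436
theorem uV_176904 : Upto T.chkV 176904 := upto_add uV_176670 rfl cV_176670
theorem uV_177138 : Upto T.chkV 177138 := upto_add uV_176904 rfl cV_176904
theorem uV_177372 : Upto T.chkV 177372 := upto_add uV_177138 rfl cV_177138
theorem uV_177606 : Upto T.chkV 177606 := upto_add uV_177372 rfl cV_177372
theorem uV_177840 : Upto T.chkV 177840 := upto_add uV_177606 rfl cV_177606
theorem uV_178074 : Upto T.chkV 178074 := upto_add uV_177840 rfl cV_177840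
theorem uV_178308 : Upto T.chkV 178308 := upto_add uV_178074 rfl cV_178074
theorem uV_178542 : Upto T.chkV 178542 := upto_add uV_178308 rfl cV_178308
theorem uV_178776 : Upto T.chkV 178776 := upto_add uV_178542 rfl cV_178542
theorem uV_179010 : Upto T.chkV 179010 := upto_add uV_178776 rfl cV_178776
theorem uV_179244 : Upto T.chkV 179244 := upto_add uV_179010 rfl cV_179010
theorem uV_179478 : Upto T.chkV 179478 := upto_add uV_179244 rfl cV_179244
theorem uV_179712 : Upto T.chkV 179712 := upto_add uV_179478 rfl cV_179478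
theorem uV_179946 : Upto T.chkV 179946 := upto_add uV_179712 rfl cV_179712
theorem uV_180180 : Upto T.chkV 180180 := upto_add uV_179946 rfl cV_179946
theorem uV_180414 : Upto T.chkV 180414 := upto_add uV_180180 rfl cV_180180
theorem uV_180648 : Upto T.chkV 180648 := upto_add uV_180414 rfl cV_180414
theorem uV_180882 : Upto T.chkV 180882 := upto_add uV_180648 rfl cV_180648
theorem uV_181116 : Upto T.chkV 181116 := upto_add uV_180882 rfl cV_180882
theorem uV_181350 : Upto T.chkV 181350 := upto_add uV_181116 rfl cV_181116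
theorem uV_181584 : Upto T.chkV 181584 := upto_add uV_181350 rfl cV_181350
theorem uV_181818 : Upto T.chkV 181818 := upto_add uV_181584 rfl cV_181584
theorem uV_182052 : Upto T.chkV 182052 := upto_add uV_181818 rfl cV_181818
theorem uV_182286 : Upto T.chkV 182286 := upto_add uV_182052 rfl cV_182052
theorem uV_182520 : Upto T.chkV 182520 := upto_add uV_182286 rfl cV_182286
theorem uV_182754 : Upto T.chkV 182754 := upto_add uV_182520 rfl cV_182520
theorem uV_182988 : Upto T.chkV 182988 := upto_add uV_182754 rfl cV_182754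
theorem uV_183222 : Upto T.chkV 183222 := upto_add uV_182988 rfl cV_182988
theorem uV_183456 : Upto T.chkV 183456 := upto_add uV_183222 rfl cV_183222
theorem uV_183690 : Upto T.chkV 183690 := upto_add uV_183456 rfl cV_183456
theorem uV_183924 : Upto T.chkV 183924 := upto_add uV_183690 rfl cV_183690
theorem uV_184158 : Upto T.chkV 184158 := upto_add uV_183924 rfl cV_183924
theorem uV_184392 : Upto T.chkV 184392 := upto_add uV_184158 rfl cV_184158
theorem uV_184626 : Upto T.chkV 184626 := upto_add uV_184392 rfl cV_184392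
theorem uV_184860 : Upto T.chkV 184860 := upto_add uV_184626 rfl cV_184626
theorem uV_185094 : Upto T.chkV 185094 := upto_add uV_184860 rfl cV_184860
theorem uV_185328 : Upto T.chkV 185328 := upto_add uV_185094 rfl cV_185094
theorem uV_185562 : Upto T.chkV 185562 := upto_add uV_185328 rfl cV_185328
theorem uV_185796 : Upto T.chkV 185796 := upto_add uV_185562 rfl cV_185562
theorem uV_186030 : Upto T.chkV 186030 := upto_add uV_185796 rfl cV_185796
theorem uV_186264 : Upto T.chkV 186264 := upto_add uV_186030 rfl cV_186030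
theorem uV_186498 : Upto T.chkV 186498 := upto_add uV_186264 rfl cV_186264
theorem uV_186732 : Upto T.chkV 186732 := upto_add uV_186498 rfl cV_186498
theorem uV_186966 : Upto T.chkV 186966 := upto_add uV_186732 rfl cV_186732
theorem uV_187200 : Upto T.chkV 187200 := upto_add uV_186966 rfl cV_186966
theorem uV_187434 : Upto T.chkV 187434 := upto_add uV_187200 rfl cV_187200
theorem uV_187668 : Upto T.chkV 187668 := upto_add uV_187434 rfl cV_187434
theorem uV_187902 : Upto T.chkV 187902 := upto_add uV_187668 rfl cV_187668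
theorem uV_188136 : Upto T.chkV 188136 := upto_add uV_187902 rfl cV_187902
theorem uV_188370 : Upto T.chkV 188370 := upto_add uV_188136 rfl cV_188136
theorem uV_188604 : Upto T.chkV 188604 := upto_add uV_188370 rfl cV_188370
theorem uV_188838 : Upto T.chkV 188838 := upto_add uV_188604 rfl cV_188604
theorem uV_189072 : Upto T.chkV 189072 := upto_add uV_188838 rfl cV_188838
theorem uV_189306 : Upto T.chkV 189306 := upto_add uV_189072 rfl cV_189072
theorem uV_189540 : Upto T.chkV 189540 := upto_add uV_189306 rfl cV_189306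
theorem uV_189774 : Upto T.chkV 189774 := upto_add uV_189540 rfl cV_189540
theorem uV_190008 : Upto T.chkV 190008 := upto_add uV_189774 rfl cV_189774
theorem uV_190242 : Upto T.chkV 190242 := upto_add uV_190008 rfl cV_190008
theorem uV_190476 : Upto T.chkV 190476 := upto_add uV_190242 rfl cV_190242
theorem uV_190710 : Upto T.chkV 190710 := upto_add uV_190476 rfl cV_190476
theorem uV_190944 : Upto T.chkV 190944 := upto_add uV_190710 rfl cV_190710
theorem uV_191178 : Upto T.chkV 191178 := upto_add uV_190944 rfl cV_190944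
theorem uV_191412 : Upto T.chkV 191412 := upto_add uV_191178 rfl cV_191178
theorem uV_191646 : Upto T.chkV 191646 := upto_add uV_191412 rfl cV_191412
theorem uV_191880 : Upto T.chkV 191880 := upto_add uV_191646 rfl cV_191646
theorem uV_192114 : Upto T.chkV 192114 := upto_add uV_191880 rfl cV_191880
theorem uV_192348 : Upto T.chkV 192348 := upto_add uV_192114 rfl cV_192114
theorem uV_192582 : Upto T.chkV 192582 := upto_add uV_192348 rfl cV_192348
theorem uV_192816 : Upto T.chkV 192816 := upto_add uV_192582 rfl cV_192582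
theorem uV_193050 : Upto T.chkV 193050 := upto_add uV_192816 rfl cV_192816
theorem uV_193284 : Upto T.chkV 193284 := upto_add uV_193050 rfl cV_193050
theorem uV_193518 : Upto T.chkV 193518 := upto_add uV_193284 rfl cV_193284
theorem uV_193752 : Upto T.chkV 193752 := upto_add uV_193518 rfl cV_193518
theorem uV_193986 : Upto T.chkV 193986 := upto_add uV_193752 rfl cV_193752
theorem uV_194220 : Upto T.chkV 194220 := upto_add uV_193986 rfl cV_193986
theorem uV_194454 : Upto T.chkV 194454 := upto_add uV_194220 rfl cV_194220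
theorem uV_194688 : Upto T.chkV 194688 := upto_add uV_194454 rfl cV_194454
theorem uV_194922 : Upto T.chkV 194922 := upto_add uV_194688 rfl cV_194688
theorem uV_195156 : Upto T.chkV 195156 := upto_add uV_194922 rfl cV_194922
theorem uV_195390 : Upto T.chkV 195390 := upto_add uV_195156 rfl cV_195156
theorem uV_195624 : Upto T.chkV 195624 := upto_add uV_195390 rfl cV_195390
theorem uV_195858 : Upto T.chkV 195858 := upto_add uV_195624 rfl cV_195624
theorem uV_196092 : Upto T.chkV 196092 := upto_add uV_195858 rfl cV_195858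
theorem uV_196326 : Upto T.chkV 196326 := upto_add uV_196092 rfl cV_196092
theorem uV_196560 : Upto T.chkV 196560 := upto_add uV_196326 rfl cV_196326
theorem uV_196794 : Upto T.chkV 196794 := upto_add uV_196560 rfl cV_196560
theorem uV_197028 : Upto T.chkV 197028 := upto_add uV_196794 rfl cV_196794
theorem uV_197262 : Upto T.chkV 197262 := upto_add uV_197028 rfl cV_197028
theorem uV_197496 : Upto T.chkV 197496 := upto_add uV_197262 rfl cV_197262
theorem uV_197730 : Upto T.chkV 197730 := upto_add uV_197496 rfl cV_197496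
theorem uV_197964 : Upto T.chkV 197964 := upto_add uV_197730 rfl cV_197730
theorem uV_198198 : Upto T.chkV 198198 := upto_add uV_197964 rfl cV_197964
theorem uV_198432 : Upto T.chkV 198432 := upto_add uV_198198 rfl cV_198198
theorem uV_198666 : Upto T.chkV 198666 := upto_add uV_198432 rfl cV_198432
theorem uV_198900 : Upto T.chkV 198900 := upto_add uV_198666 rfl cV_198666
theorem uV_199134 : Upto T.chkV 199134 := upto_add uV_198900 rfl cV_198900
theorem uV_199368 : Upto T.chkV 199368 := upto_add uV_199134 rfl cV_199134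
theorem uV_199602 : Upto T.chkV 199602 := upto_add uV_199368 rfl cV_199368
theorem uV_199836 : Upto T.chkV 199836 := upto_add uV_199602 rfl cV_199602
theorem uV_200070 : Upto T.chkV 200070 := upto_add uV_199836 rfl cV_199836
theorem uV_200304 : Upto T.chkV 200304 := upto_add uV_200070 rfl cV_200070
theorem uV_200538 : Upto T.chkV 200538 := upto_add uV_200304 rfl cV_200304
theorem uV_200772 : Upto T.chkV 200772 := upto_add uV_200538 rfl cV_200538
theorem uV_201006 : Upto T.chkV 201006 := upto_add uV_200772 rfl cV_200772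
theorem uV_201240 : Upto T.chkV 201240 := upto_add uV_201006 rfl cV_201006
theorem uV_201474 : Upto T.chkV 201474 := upto_add uV_201240 rfl cV_201240
theorem uV_201708 : Upto T.chkV 201708 := upto_add uV_201474 rfl cV_201474
theorem uV_201942 : Upto T.chkV 201942 := upto_add uV_201708 rfl cV_201708
theorem uV_202176 : Upto T.chkV 202176 := upto_add uV_201942 rfl cV_201942
theorem uV_202410 : Upto T.chkV 202410 := upto_add uV_202176 rfl cV_202176
theorem uV_202644 : Upto T.chkV 202644 := upto_add uV_202410 rfl cV_202410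
theorem uV_202878 : Upto T.chkV 202878 := upto_add uV_202644 rfl cV_202644
theorem uV_203112 : Upto T.chkV 203112 := upto_add uV_202878 rfl cV_202878
theorem uV_203346 : Upto T.chkV 203346 := upto_add uV_203112 rfl cV_203112
theorem uV_203580 : Upto T.chkV 203580 := upto_add uV_203346 rfl cV_203346
theorem uV_203814 : Upto T.chkV 203814 := upto_add uV_203580 rfl cV_203580
theorem uV_204048 : Upto T.chkV 204048 := upto_add uV_203814 rfl cV_203814
theorem uV_204282 : Upto T.chkV 204282 := upto_add uV_204048 rfl cV_204048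
theorem uV_204516 : Upto T.chkV 204516 := upto_add uV_204282 rfl cV_204282
theorem uV_204750 : Upto T.chkV 204750 := upto_add uV_204516 rfl cV_204516
theorem uV_204984 : Upto T.chkV 204984 := upto_add uV_204750 rfl cV_204750
theorem uV_205218 : Upto T.chkV 205218 := upto_add uV_204984 rfl cV_204984
theorem uV_205452 : Upto T.chkV 205452 := upto_add uV_205218 rfl cV_205218
theorem uV_205686 : Upto T.chkV 205686 := upto_add uV_205452 rfl cV_205452
theorem uV_205920 : Upto T.chkV 205920 := upto_add uV_205686 rfl cV_205686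
theorem uV_206154 : Upto T.chkV 206154 := upto_add uV_205920 rfl cV_205920
theorem uV_206388 : Upto T.chkV 206388 := upto_add uV_206154 rfl cV_206154
theorem uV_206622 : Upto T.chkV 206622 := upto_add uV_206388 rfl cV_206388
theorem uV_206856 : Upto T.chkV 206856 := upto_add uV_206622 rfl cV_206622
theorem uV_207090 : Upto T.chkV 207090 := upto_add uV_206856 rfl cV_206856
theorem uV_207324 : Upto T.chkV 207324 := upto_add uV_207090 rfl cV_207090
theorem uV_207558 : Upto T.chkV 207558 := upto_add uV_207324 rfl cV_207324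
theorem uV_207792 : Upto T.chkV 207792 := upto_add uV_207558 rfl cV_207558
theorem uV_208026 : Upto T.chkV 208026 := upto_add uV_207792 rfl cV_207792
theorem uV_208260 : Upto T.chkV 208260 := upto_add uV_208026 rfl cV_208026
theorem uV_208494 : Upto T.chkV 208494 := upto_add uV_208260 rfl cV_208260
theorem uV_208728 : Upto T.chkV 208728 := upto_add uV_208494 rfl cV_208494
theorem uV_208962 : Upto T.chkV 208962 := upto_add uV_208728 rfl cV_208728
theorem uV_209196 : Upto T.chkV 209196 := upto_add uV_208962 rfl cV_208962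
theorem uV_209430 : Upto T.chkV 209430 := upto_add uV_209196 rfl cV_209196
theorem uV_209664 : Upto T.chkV 209664 := upto_add uV_209430 rfl cV_209430
theorem uV_209898 : Upto T.chkV 209898 := upto_add uV_209664 rfl cV_209664
theorem uV_210132 : Upto T.chkV 210132 := upto_add uV_209898 rfl cV_209898
theorem uV_210366 : Upto T.chkV 210366 := upto_add uV_210132 rfl cV_210132
theorem uV_210600 : Upto T.chkV 210600 := upto_add uV_210366 rfl cV_210366
theorem uV_210834 : Upto T.chkV 210834 := upto_add uV_210600 rfl cV_210600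
theorem uV_211068 : Upto T.chkV 211068 := upto_add uV_210834 rfl cV_210834
theorem uV_211302 : Upto T.chkV 211302 := upto_add uV_211068 rfl cV_211068
theorem uV_211536 : Upto T.chkV 211536 := upto_add uV_211302 rfl cV_211302
theorem uV_211770 : Upto T.chkV 211770 := upto_add uV_211536 rfl cV_211536
theorem uV_212004 : Upto T.chkV 212004 := upto_add uV_211770 rfl cV_211770
theorem uV_212238 : Upto T.chkV 212238 := upto_add uV_212004 rfl cV_212004
theorem uV_212472 : Upto T.chkV 212472 := upto_add uV_212238 rfl cV_212238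
theorem uV_212706 : Upto T.chkV 212706 := upto_add uV_212472 rfl cV_212472
theorem uV_212940 : Upto T.chkV 212940 := upto_add uV_212706 rfl cV_212706
theorem uV_213174 : Upto T.chkV 213174 := upto_add uV_212940 rfl cV_212940
theorem uV_213408 : Upto T.chkV 213408 := upto_add uV_213174 rfl cV_213174
theorem uV_213642 : Upto T.chkV 213642 := upto_add uV_213408 rfl cV_213408
theorem uV_213876 : Upto T.chkV 213876 := upto_add uV_213642 rfl cV_213642
theorem uV_214110 : Upto T.chkV 214110 := upto_add uV_213876 rfl cV_213876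
theorem uV_214344 : Upto T.chkV 214344 := upto_add uV_214110 rfl cV_214110
theorem uV_214578 : Upto T.chkV 214578 := upto_add uV_214344 rfl cV_214344
theorem uV_214812 : Upto T.chkV 214812 := upto_add uV_214578 rfl cV_214578
theorem uV_215046 : Upto T.chkV 215046 := upto_add uV_214812 rfl cV_214812
theorem uV_215280 : Upto T.chkV 215280 := upto_add uV_215046 rfl cV_215046
theorem uV_215514 : Upto T.chkV 215514 := upto_add uV_215280 rfl cV_215280
theorem uV_215748 : Upto T.chkV 215748 := upto_add uV_215514 rfl cV_215514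
theorem uV_215982 : Upto T.chkV 215982 := upto_add uV_215748 rfl cV_215748
theorem uV_216216 : Upto T.chkV 216216 := upto_add uV_215982 rfl cV_215982
theorem uV_216450 : Upto T.chkV 216450 := upto_add uV_216216 rfl cV_216216
theorem uV_216684 : Upto T.chkV 216684 := upto_add uV_216450 rfl cV_216450
theorem uV_216918 : Upto T.chkV 216918 := upto_add uV_216684 rfl cV_216684
theorem uV_217152 : Upto T.chkV 217152 := upto_add uV_216918 rfl cV_216918
theorem uV_217386 : Upto T.chkV 217386 := upto_add uV_217152 rfl cV_217152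
theorem uV_217620 : Upto T.chkV 217620 := upto_add uV_217386 rfl cV_217386
theorem uV_217854 : Upto T.chkV 217854 := upto_add uV_217620 rfl cV_217620
theorem uV_218088 : Upto T.chkV 218088 := upto_add uV_217854 rfl cV_217854
theorem uV_218322 : Upto T.chkV 218322 := upto_add uV_218088 rfl cV_218088
theorem uV_218556 : Upto T.chkV 218556 := upto_add uV_218322 rfl cV_218322
theorem uV_218790 : Upto T.chkV 218790 := upto_add uV_218556 rfl cV_218556
theorem uV_219024 : Upto T.chkV 219024 := upto_add uV_218790 rfl cV_218790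
theorem uV_219258 : Upto T.chkV 219258 := upto_add uV_219024 rfl cV_219024
theorem uV_219492 : Upto T.chkV 219492 := upto_add uV_219258 rfl cV_219258
theorem uV_219726 : Upto T.chkV 219726 := upto_add uV_219492 rfl cV_219492
theorem uV_219960 : Upto T.chkV 219960 := upto_add uV_219726 rfl cV_219726
theorem uV_220194 : Upto T.chkV 220194 := upto_add uV_219960 rfl cV_219960
theorem uV_220428 : Upto T.chkV 220428 := upto_add uV_220194 rfl cV_220194
theorem uV_220662 : Upto T.chkV 220662 := upto_add uV_220428 rfl cV_220428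
theorem uV_220896 : Upto T.chkV 220896 := upto_add uV_220662 rfl cV_220662
theorem uV_221130 : Upto T.chkV 221130 := upto_add uV_220896 rfl cV_220896
theorem uV_221364 : Upto T.chkV 221364 := upto_add uV_221130 rfl cV_221130
theorem uV_221598 : Upto T.chkV 221598 := upto_add uV_221364 rfl cV_221364
theorem uV_221832 : Upto T.chkV 221832 := upto_add uV_221598 rfl cV_221598
theorem uV_222066 : Upto T.chkV 222066 := upto_add uV_221832 rfl cV_221832
theorem uV_222300 : Upto T.chkV 222300 := upto_add uV_222066 rfl cV_222066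
theorem uV_222534 : Upto T.chkV 222534 := upto_add uV_222300 rfl cV_222300
theorem uV_222768 : Upto T.chkV 222768 := upto_add uV_222534 rfl cV_222534
theorem uV_223002 : Upto T.chkV 223002 := upto_add uV_222768 rfl cV_222768
theorem uV_223236 : Upto T.chkV 223236 := upto_add uV_223002 rfl cV_223002
theorem uV_223470 : Upto T.chkV 223470 := upto_add uV_223236 rfl cV_223236
theorem uV_223704 : Upto T.chkV 223704 := upto_add uV_223470 rfl cV_223470
theorem uV_223938 : Upto T.chkV 223938 := upto_add uV_223704 rfl cV_223704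
theorem uV_224172 : Upto T.chkV 224172 := upto_add uV_223938 rfl cV_223938
theorem uV_224406 : Upto T.chkV 224406 := upto_add uV_224172 rfl cV_224172
theorem uV_224640 : Upto T.chkV 224640 := upto_add uV_224406 rfl cV_224406
theorem uV_224874 : Upto T.chkV 224874 := upto_add uV_224640 rfl cV_224640
theorem uV_225108 : Upto T.chkV 225108 := upto_add uV_224874 rfl cV_224874
theorem uV_225342 : Upto T.chkV 225342 := upto_add uV_225108 rfl cV_225108
theorem uV_225576 : Upto T.chkV 225576 := upto_add uV_225342 rfl cV_225342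
theorem uV_225810 : Upto T.chkV 225810 := upto_add uV_225576 rfl cV_225576
theorem uV_226044 : Upto T.chkV 226044 := upto_add uV_225810 rfl cV_225810
theorem uV_226278 : Upto T.chkV 226278 := upto_add uV_226044 rfl cV_226044
theorem uV_226512 : Upto T.chkV 226512 := upto_add uV_226278 rfl cV_226278
theorem uV_226746 : Upto T.chkV 226746 := upto_add uV_226512 rfl cV_226512
theorem uV_226980 : Upto T.chkV 226980 := upto_add uV_226746 rfl cV_226746
theorem uV_227214 : Upto T.chkV 227214 := upto_add uV_226980 rfl cV_226980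
theorem uV_227448 : Upto T.chkV 227448 := upto_add uV_227214 rfl cV_227214
theorem uV_227682 : Upto T.chkV 227682 := upto_add uV_227448 rfl cV_227448
theorem uV_227916 : Upto T.chkV 227916 := upto_add uV_227682 rfl cV_227682
theorem uV_228150 : Upto T.chkV 228150 := upto_add uV_227916 rfl cV_227916
theorem uV_228384 : Upto T.chkV 228384 := upto_add uV_228150 rfl cV_228150
theorem uV_228618 : Upto T.chkV 228618 := upto_add uV_228384 rfl cV_228384
theorem uV_228852 : Upto T.chkV 228852 := upto_add uV_228618 rfl cV_228618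
theorem uV_229086 : Upto T.chkV 229086 := upto_add uV_228852 rfl cV_228852
theorem uV_229320 : Upto T.chkV 229320 := upto_add uV_229086 rfl cV_229086
theorem uV_229554 : Upto T.chkV 229554 := upto_add uV_229320 rfl cV_229320
theorem uV_229788 : Upto T.chkV 229788 := upto_add uV_229554 rfl cV_229554
theorem uV_230022 : Upto T.chkV 230022 := upto_add uV_229788 rfl cV_229788
theorem uV_230256 : Upto T.chkV 230256 := upto_add uV_230022 rfl cV_230022
theorem uV_230490 : Upto T.chkV 230490 := upto_add uV_230256 rfl cV_230256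
theorem uV_230724 : Upto T.chkV 230724 := upto_add uV_230490 rfl cV_230490
theorem uV_230958 : Upto T.chkV 230958 := upto_add uV_230724 rfl cV_230724
theorem uV_231192 : Upto T.chkV 231192 := upto_add uV_230958 rfl cV_230958
theorem uV_231426 : Upto T.chkV 231426 := upto_add uV_231192 rfl cV_231192
theorem uV_231660 : Upto T.chkV 231660 := upto_add uV_231426 rfl cV_231426
theorem uV_231894 : Upto T.chkV 231894 := upto_add uV_231660 rfl cV_231660
theorem uV_232128 : Upto T.chkV 232128 := upto_add uV_231894 rfl cV_231894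
theorem uV_232362 : Upto T.chkV 232362 := upto_add uV_232128 rfl cV_232128
theorem uV_232596 : Upto T.chkV 232596 := upto_add uV_232362 rfl cV_232362
theorem uV_232830 : Upto T.chkV 232830 := upto_add uV_232596 rfl cV_232596
theorem uV_233064 : Upto T.chkV 233064 := upto_add uV_232830 rfl cV_232830
theorem uV_233298 : Upto T.chkV 233298 := upto_add uV_233064 rfl cV_233064
theorem uV_233532 : Upto T.chkV 233532 := upto_add uV_233298 rfl cV_233298
theorem uV_233766 : Upto T.chkV 233766 := upto_add uV_233532 rfl cV_233532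
theorem uV_234000 : Upto T.chkV 234000 := upto_add uV_233766 rfl cV_233766
theorem uV_234234 : Upto T.chkV 234234 := upto_add uV_234000 rfl cV_234000
theorem uV_234468 : Upto T.chkV 234468 := upto_add uV_234234 rfl cV_234234
theorem uV_234702 : Upto T.chkV 234702 := upto_add uV_234468 rfl cV_234468
theorem uV_234936 : Upto T.chkV 234936 := upto_add uV_234702 rfl cV_234702
theorem uV_235170 : Upto T.chkV 235170 := upto_add uV_234936 rfl cV_234936
theorem uV_235404 : Upto T.chkV 235404 := upto_add uV_235170 rfl cV_235170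
theorem uV_235638 : Upto T.chkV 235638 := upto_add uV_235404 rfl cV_235404
theorem uV_235872 : Upto T.chkV 235872 := upto_add uV_235638 rfl cV_235638
theorem uV_236106 : Upto T.chkV 236106 := upto_add uV_235872 rfl cV_235872
theorem uV_236340 : Upto T.chkV 236340 := upto_add uV_236106 rfl cV_236106
theorem uV_236574 : Upto T.chkV 236574 := upto_add uV_236340 rfl cV_236340
theorem uV_236808 : Upto T.chkV 236808 := upto_add uV_236574 rfl cV_236574
theorem uV_237042 : Upto T.chkV 237042 := upto_add uV_236808 rfl cV_236808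
theorem uV_237276 : Upto T.chkV 237276 := upto_add uV_237042 rfl cV_237042
theorem uV_237510 : Upto T.chkV 237510 := upto_add uV_237276 rfl cV_237276
theorem uV_237744 : Upto T.chkV 237744 := upto_add uV_237510 rfl cV_237510
theorem uV_237978 : Upto T.chkV 237978 := upto_add uV_237744 rfl cV_237744
theorem uV_238212 : Upto T.chkV 238212 := upto_add uV_237978 rfl cV_237978
theorem uV_238446 : Upto T.chkV 238446 := upto_add uV_238212 rfl cV_238212
theorem uV_238680 : Upto T.chkV 238680 := upto_add uV_238446 rfl cV_238446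
theorem uV_238914 : Upto T.chkV 238914 := upto_add uV_238680 rfl cV_238680
theorem uV_239148 : Upto T.chkV 239148 := upto_add uV_238914 rfl cV_238914
theorem uV_239382 : Upto T.chkV 239382 := upto_add uV_239148 rfl cV_239148
theorem uV_239616 : Upto T.chkV 239616 := upto_add uV_239382 rfl cV_239382
theorem uV_239850 : Upto T.chkV 239850 := upto_add uV_239616 rfl cV_239616
theorem uV_240084 : Upto T.chkV 240084 := upto_add uV_239850 rfl cV_239850
theorem uV_240318 : Upto T.chkV 240318 := upto_add uV_240084 rfl cV_240084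
theorem uV_240552 : Upto T.chkV 240552 := upto_add uV_240318 rfl cV_240318
theorem uV_240786 : Upto T.chkV 240786 := upto_add uV_240552 rfl cV_240552
theorem uV_241020 : Upto T.chkV 241020 := upto_add uV_240786 rfl cV_240786
theorem uV_241254 : Upto T.chkV 241254 := upto_add uV_241020 rfl cV_241020
theorem uV_241488 : Upto T.chkV 241488 := upto_add uV_241254 rfl cV_241254
theorem uV_241722 : Upto T.chkV 241722 := upto_add uV_241488 rfl cV_241488
theorem uV_241956 : Upto T.chkV 241956 := upto_add uV_241722 rfl cV_241722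
theorem uV_242190 : Upto T.chkV 242190 := upto_add uV_241956 rfl cV_241956
theorem uV_242424 : Upto T.chkV 242424 := upto_add uV_242190 rfl cV_242190
theorem uV_242658 : Upto T.chkV 242658 := upto_add uV_242424 rfl cV_242424
theorem uV_242892 : Upto T.chkV 242892 := upto_add uV_242658 rfl cV_242658
theorem uV_243126 : Upto T.chkV 243126 := upto_add uV_242892 rfl cV_242892
theorem uV_243360 : Upto T.chkV 243360 := upto_add uV_243126 rfl cV_243126
theorem uV_243594 : Upto T.chkV 243594 := upto_add uV_243360 rfl cV_243360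
theorem uV_243828 : Upto T.chkV 243828 := upto_add uV_243594 rfl cV_243594
theorem uV_244062 : Upto T.chkV 244062 := upto_add uV_243828 rfl cV_243828
theorem uV_244296 : Upto T.chkV 244296 := upto_add uV_244062 rfl cV_244062
theorem uV_244530 : Upto T.chkV 244530 := upto_add uV_244296 rfl cV_244296
theorem uV_244764 : Upto T.chkV 244764 := upto_add uV_244530 rfl cV_244530
theorem uV_244998 : Upto T.chkV 244998 := upto_add uV_244764 rfl cV_244764
theorem uV_245232 : Upto T.chkV 245232 := upto_add uV_244998 rfl cV_244998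
theorem uV_245466 : Upto T.chkV 245466 := upto_add uV_245232 rfl cV_245232
theorem uV_245700 : Upto T.chkV 245700 := upto_add uV_245466 rfl cV_245466
theorem uV_245934 : Upto T.chkV 245934 := upto_add uV_245700 rfl cV_245700
theorem uV_246168 : Upto T.chkV 246168 := upto_add uV_245934 rfl cV_245934
theorem uV_246402 : Upto T.chkV 246402 := upto_add uV_246168 rfl cV_246168
theorem uV_246636 : Upto T.chkV 246636 := upto_add uV_246402 rfl cV_246402
theorem uV_246870 : Upto T.chkV 246870 := upto_add uV_246636 rfl cV_246636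
theorem uV_247104 : Upto T.chkV 247104 := upto_add uV_246870 rfl cV_246870
theorem uV_247338 : Upto T.chkV 247338 := upto_add uV_247104 rfl cV_247104
theorem uV_247572 : Upto T.chkV 247572 := upto_add uV_247338 rfl cV_247338
theorem uV_247806 : Upto T.chkV 247806 := upto_add uV_247572 rfl cV_247572
theorem uV_248040 : Upto T.chkV 248040 := upto_add uV_247806 rfl cV_247806
theorem uV_248274 : Upto T.chkV 248274 := upto_add uV_248040 rfl cV_248040
theorem uV_248508 : Upto T.chkV 248508 := upto_add uV_248274 rfl cV_248274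
theorem uV_248742 : Upto T.chkV 248742 := upto_add uV_248508 rfl cV_248508
theorem uV_248976 : Upto T.chkV 248976 := upto_add uV_248742 rfl cV_248742
theorem uV_249210 : Upto T.chkV 249210 := upto_add uV_248976 rfl cV_248976
theorem uV_249444 : Upto T.chkV 249444 := upto_add uV_249210 rfl cV_249210
theorem uV_249678 : Upto T.chkV 249678 := upto_add uV_249444 rfl cV_249444
theorem uV_249912 : Upto T.chkV 249912 := upto_add uV_249678 rfl cV_249678
theorem uV_250146 : Upto T.chkV 250146 := upto_add uV_249912 rfl cV_249912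
theorem uV_250380 : Upto T.chkV 250380 := upto_add uV_250146 rfl cV_250146
theorem uV_250614 : Upto T.chkV 250614 := upto_add uV_250380 rfl cV_250380
theorem uV_250848 : Upto T.chkV 250848 := upto_add uV_250614 rfl cV_250614
theorem uV_251082 : Upto T.chkV 251082 := upto_add uV_250848 rfl cV_250848
theorem uV_251316 : Upto T.chkV 251316 := upto_add uV_251082 rfl cV_251082
theorem uV_251550 : Upto T.chkV 251550 := upto_add uV_251316 rfl cV_251316
theorem uV_251784 : Upto T.chkV 251784 := upto_add uV_251550 rfl cV_251550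
theorem uV_252018 : Upto T.chkV 252018 := upto_add uV_251784 rfl cV_251784
theorem uV_252252 : Upto T.chkV 252252 := upto_add uV_252018 rfl cV_252018
theorem uV_252486 : Upto T.chkV 252486 := upto_add uV_252252 rfl cV_252252
theorem uV_252720 : Upto T.chkV 252720 := upto_add uV_252486 rfl cV_252486
theorem uV_252954 : Upto T.chkV 252954 := upto_add uV_252720 rfl cV_252720
theorem uV_253188 : Upto T.chkV 253188 := upto_add uV_252954 rfl cV_252954
theorem uV_253422 : Upto T.chkV 253422 := upto_add uV_253188 rfl cV_253188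
theorem uV_253656 : Upto T.chkV 253656 := upto_add uV_253422 rfl cV_253422
theorem uV_253890 : Upto T.chkV 253890 := upto_add uV_253656 rfl cV_253656
theorem uV_254124 : Upto T.chkV 254124 := upto_add uV_253890 rfl cV_253890
theorem uV_254358 : Upto T.chkV 254358 := upto_add uV_254124 rfl cV_254124
theorem uV_254592 : Upto T.chkV 254592 := upto_add uV_254358 rfl cV_254358
theorem uV_254826 : Upto T.chkV 254826 := upto_add uV_254592 rfl cV_254592
theorem uV_255060 : Upto T.chkV 255060 := upto_add uV_254826 rfl cV_254826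
theorem uV_255294 : Upto T.chkV 255294 := upto_add uV_255060 rfl cV_255060
theorem uV_255528 : Upto T.chkV 255528 := upto_add uV_255294 rfl cV_255294
theorem uV_255762 : Upto T.chkV 255762 := upto_add uV_255528 rfl cV_255528
theorem uV_255996 : Upto T.chkV 255996 := upto_add uV_255762 rfl cV_255762
theorem uV_256230 : Upto T.chkV 256230 := upto_add uV_255996 rfl cV_255996
theorem uV_256464 : Upto T.chkV 256464 := upto_add uV_256230 rfl cV_256230
theorem uV_256698 : Upto T.chkV 256698 := upto_add uV_256464 rfl cV_256464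
theorem uV_256932 : Upto T.chkV 256932 := upto_add uV_256698 rfl cV_256698
theorem uV_257166 : Upto T.chkV 257166 := upto_add uV_256932 rfl cV_256932
theorem uV_257400 : Upto T.chkV 257400 := upto_add uV_257166 rfl cV_257166
theorem uV_257634 : Upto T.chkV 257634 := upto_add uV_257400 rfl cV_257400
theorem uV_257868 : Upto T.chkV 257868 := upto_add uV_257634 rfl cV_257634
theorem uV_258102 : Upto T.chkV 258102 := upto_add uV_257868 rfl cV_257868
theorem uV_258336 : Upto T.chkV 258336 := upto_add uV_258102 rfl cV_258102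
theorem uV_258570 : Upto T.chkV 258570 := upto_add uV_258336 rfl cV_258336
theorem uV_258804 : Upto T.chkV 258804 := upto_add uV_258570 rfl cV_258570
theorem uV_259038 : Upto T.chkV 259038 := upto_add uV_258804 rfl cV_258804
theorem uV_259272 : Upto T.chkV 259272 := upto_add uV_259038 rfl cV_259038
theorem uV_259506 : Upto T.chkV 259506 := upto_add uV_259272 rfl cV_259272
theorem uV_259740 : Upto T.chkV 259740 := upto_add uV_259506 rfl cV_259506
theorem uV_259974 : Upto T.chkV 259974 := upto_add uV_259740 rfl cV_259740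
theorem uV_260208 : Upto T.chkV 260208 := upto_add uV_259974 rfl cV_259974
theorem uV_260442 : Upto T.chkV 260442 := upto_add uV_260208 rfl cV_260208
theorem uV_260676 : Upto T.chkV 260676 := upto_add uV_260442 rfl cV_260442
theorem uV_260910 : Upto T.chkV 260910 := upto_add uV_260676 rfl cV_260676
theorem uV_261144 : Upto T.chkV 261144 := upto_add uV_260910 rfl cV_260910
theorem uV_261378 : Upto T.chkV 261378 := upto_add uV_261144 rfl cV_261144
theorem uV_261612 : Upto T.chkV 261612 := upto_add uV_261378 rfl cV_261378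
theorem uV_261846 : Upto T.chkV 261846 := upto_add uV_261612 rfl cV_261612
theorem uV_262080 : Upto T.chkV 262080 := upto_add uV_261846 rfl cV_261846
theorem uV_262314 : Upto T.chkV 262314 := upto_add uV_262080 rfl cV_262080
theorem uV_262548 : Upto T.chkV 262548 := upto_add uV_262314 rfl cV_262314
theorem uV_262782 : Upto T.chkV 262782 := upto_add uV_262548 rfl cV_262548
theorem uV_263016 : Upto T.chkV 263016 := upto_add uV_262782 rfl cV_262782
theorem uV_263250 : Upto T.chkV 263250 := upto_add uV_263016 rfl cV_263016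
theorem uV_263484 : Upto T.chkV 263484 := upto_add uV_263250 rfl cV_263250
theorem uV_263718 : Upto T.chkV 263718 := upto_add uV_263484 rfl cV_263484
theorem uV_263952 : Upto T.chkV 263952 := upto_add uV_263718 rfl cV_263718
theorem uV_264186 : Upto T.chkV 264186 := upto_add uV_263952 rfl cV_263952
theorem uV_264420 : Upto T.chkV 264420 := upto_add uV_264186 rfl cV_264186
theorem uV_264654 : Upto T.chkV 264654 := upto_add uV_264420 rfl cV_264420
theorem uV_264888 : Upto T.chkV 264888 := upto_add uV_264654 rfl cV_264654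
theorem uV_265122 : Upto T.chkV 265122 := upto_add uV_264888 rfl cV_264888
theorem uV_265356 : Upto T.chkV 265356 := upto_add uV_265122 rfl cV_265122
theorem uV_265590 : Upto T.chkV 265590 := upto_add uV_265356 rfl cV_265356
theorem uV_265824 : Upto T.chkV 265824 := upto_add uV_265590 rfl cV_265590
theorem uV_266058 : Upto T.chkV 266058 := upto_add uV_265824 rfl cV_265824
theorem uV_266292 : Upto T.chkV 266292 := upto_add uV_266058 rfl cV_266058
theorem uV_266526 : Upto T.chkV 266526 := upto_add uV_266292 rfl cV_266292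
theorem uV_266760 : Upto T.chkV 266760 := upto_add uV_266526 rfl cV_266526
theorem uV_266994 : Upto T.chkV 266994 := upto_add uV_266760 rfl cV_266760
theorem uV_267228 : Upto T.chkV 267228 := upto_add uV_266994 rfl cV_266994
theorem uV_267462 : Upto T.chkV 267462 := upto_add uV_267228 rfl cV_267228
theorem uV_267696 : Upto T.chkV 267696 := upto_add uV_267462 rfl cV_267462
theorem uV_267930 : Upto T.chkV 267930 := upto_add uV_267696 rfl cV_267696
theorem uV_268164 : Upto T.chkV 268164 := upto_add uV_267930 rfl cV_267930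
theorem uV_268398 : Upto T.chkV 268398 := upto_add uV_268164 rfl cV_268164
theorem uV_268632 : Upto T.chkV 268632 := upto_add uV_268398 rfl cV_268398
theorem uV_268866 : Upto T.chkV 268866 := upto_add uV_268632 rfl cV_268632
theorem uV_269100 : Upto T.chkV 269100 := upto_add uV_268866 rfl cV_268866
theorem uV_269334 : Upto T.chkV 269334 := upto_add uV_269100 rfl cV_269100
theorem uV_269568 : Upto T.chkV 269568 := upto_add uV_269334 rfl cV_269334
theorem uV_269802 : Upto T.chkV 269802 := upto_add uV_269568 rfl cV_269568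
theorem uV_270036 : Upto T.chkV 270036 := upto_add uV_269802 rfl cV_269802
theorem uV_270270 : Upto T.chkV 270270 := upto_add uV_270036 rfl cV_270036
theorem uV_270504 : Upto T.chkV 270504 := upto_add uV_270270 rfl cV_270270
theorem uV_270738 : Upto T.chkV 270738 := upto_add uV_270504 rfl cV_270504
theorem uV_270972 : Upto T.chkV 270972 := upto_add uV_270738 rfl cV_270738
theorem uV_271206 : Upto T.chkV 271206 := upto_add uV_270972 rfl cV_270972
theorem uV_271440 : Upto T.chkV 271440 := upto_add uV_271206 rfl cV_271206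
theorem uV_271674 : Upto T.chkV 271674 := upto_add uV_271440 rfl cV_271440
theorem uV_271908 : Upto T.chkV 271908 := upto_add uV_271674 rfl cV_271674
theorem uV_272142 : Upto T.chkV 272142 := upto_add uV_271908 rfl cV_271908
theorem uV_272376 : Upto T.chkV 272376 := upto_add uV_272142 rfl cV_272142
theorem uV_272610 : Upto T.chkV 272610 := upto_add uV_272376 rfl cV_272376
theorem uV_272844 : Upto T.chkV 272844 := upto_add uV_272610 rfl cV_272610
theorem uV_273078 : Upto T.chkV 273078 := upto_add uV_272844 rfl cV_272844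
theorem uV_273312 : Upto T.chkV 273312 := upto_add uV_273078 rfl cV_273078
theorem uV_273546 : Upto T.chkV 273546 := upto_add uV_273312 rfl cV_273312
theorem uV_273780 : Upto T.chkV 273780 := upto_add uV_273546 rfl cV_273546
theorem uV_274014 : Upto T.chkV 274014 := upto_add uV_273780 rfl cV_273780
theorem uV_274248 : Upto T.chkV 274248 := upto_add uV_274014 rfl cV_274014
theorem uV_274482 : Upto T.chkV 274482 := upto_add uV_274248 rfl cV_274248
theorem uV_274716 : Upto T.chkV 274716 := upto_add uV_274482 rfl cV_274482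
theorem uV_274950 : Upto T.chkV 274950 := upto_add uV_274716 rfl cV_274716
theorem uV_275184 : Upto T.chkV 275184 := upto_add uV_274950 rfl cV_274950
theorem uV_275418 : Upto T.chkV 275418 := upto_add uV_275184 rfl cV_275184
theorem uV_275652 : Upto T.chkV 275652 := upto_add uV_275418 rfl cV_275418
theorem uV_275886 : Upto T.chkV 275886 := upto_add uV_275652 rfl cV_275652
theorem uV_276120 : Upto T.chkV 276120 := upto_add uV_275886 rfl cV_275886
theorem uV_276354 : Upto T.chkV 276354 := upto_add uV_276120 rfl cV_276120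
theorem uV_276588 : Upto T.chkV 276588 := upto_add uV_276354 rfl cV_276354
theorem uV_276822 : Upto T.chkV 276822 := upto_add uV_276588 rfl cV_276588
theorem uV_277056 : Upto T.chkV 277056 := upto_add uV_276822 rfl cV_276822
theorem uV_277290 : Upto T.chkV 277290 := upto_add uV_277056 rfl cV_277056
theorem uV_277524 : Upto T.chkV 277524 := upto_add uV_277290 rfl cV_277290
theorem uV_277758 : Upto T.chkV 277758 := upto_add uV_277524 rfl cV_277524
theorem uV_277992 : Upto T.chkV 277992 := upto_add uV_277758 rfl cV_277758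
theorem uV_278226 : Upto T.chkV 278226 := upto_add uV_277992 rfl cV_277992
theorem uV_278460 : Upto T.chkV 278460 := upto_add uV_278226 rfl cV_278226
theorem uV_278694 : Upto T.chkV 278694 := upto_add uV_278460 rfl cV_278460
theorem uV_278928 : Upto T.chkV 278928 := upto_add uV_278694 rfl cV_278694
theorem uV_279162 : Upto T.chkV 279162 := upto_add uV_278928 rfl cV_278928
theorem uV_279396 : Upto T.chkV 279396 := upto_add uV_279162 rfl cV_279162
theorem uV_279630 : Upto T.chkV 279630 := upto_add uV_279396 rfl cV_279396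
theorem uV_279864 : Upto T.chkV 279864 := upto_add uV_279630 rfl cV_279630
theorem uV_280098 : Upto T.chkV 280098 := upto_add uV_279864 rfl cV_279864
theorem uV_280332 : Upto T.chkV 280332 := upto_add uV_280098 rfl cV_280098
theorem uV_280566 : Upto T.chkV 280566 := upto_add uV_280332 rfl cV_280332
theorem uV_280800 : Upto T.chkV 280800 := upto_add uV_280566 rfl cV_280566
theorem uV_281034 : Upto T.chkV 281034 := upto_add uV_280800 rfl cV_280800
theorem uV_281268 : Upto T.chkV 281268 := upto_add uV_281034 rfl cV_281034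
theorem uV_281502 : Upto T.chkV 281502 := upto_add uV_281268 rfl cV_281268
theorem uV_281736 : Upto T.chkV 281736 := upto_add uV_281502 rfl cV_281502
theorem uV_281970 : Upto T.chkV 281970 := upto_add uV_281736 rfl cV_281736
theorem uV_282204 : Upto T.chkV 282204 := upto_add uV_281970 rfl cV_281970
theorem uV_282438 : Upto T.chkV 282438 := upto_add uV_282204 rfl cV_282204
theorem uV_282672 : Upto T.chkV 282672 := upto_add uV_282438 rfl cV_282438
theorem uV_282906 : Upto T.chkV 282906 := upto_add uV_282672 rfl cV_282672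
theorem uV_283140 : Upto T.chkV 283140 := upto_add uV_282906 rfl cV_282906
theorem uV_283374 : Upto T.chkV 283374 := upto_add uV_283140 rfl cV_283140
theorem uV_283608 : Upto T.chkV 283608 := upto_add uV_283374 rfl cV_283374
theorem uV_283842 : Upto T.chkV 283842 := upto_add uV_283608 rfl cV_283608
theorem uV_284076 : Upto T.chkV 284076 := upto_add uV_283842 rfl cV_283842
theorem uV_284310 : Upto T.chkV 284310 := upto_add uV_284076 rfl cV_284076
theorem uV_284544 : Upto T.chkV 284544 := upto_add uV_284310 rfl cV_284310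
theorem uV_284778 : Upto T.chkV 284778 := upto_add uV_284544 rfl cV_284544
theorem uV_285012 : Upto T.chkV 285012 := upto_add uV_284778 rfl cV_284778
theorem uV_285246 : Upto T.chkV 285246 := upto_add uV_285012 rfl cV_285012
theorem uV_285480 : Upto T.chkV 285480 := upto_add uV_285246 rfl cV_285246
theorem uV_285714 : Upto T.chkV 285714 := upto_add uV_285480 rfl cV_285480
theorem uV_285948 : Upto T.chkV 285948 := upto_add uV_285714 rfl cV_285714
theorem uV_286182 : Upto T.chkV 286182 := upto_add uV_285948 rfl cV_285948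
theorem uV_286416 : Upto T.chkV 286416 := upto_add uV_286182 rfl cV_286182
theorem uV_286650 : Upto T.chkV 286650 := upto_add uV_286416 rfl cV_286416
theorem uV_286884 : Upto T.chkV 286884 := upto_add uV_286650 rfl cV_286650
theorem uV_287118 : Upto T.chkV 287118 := upto_add uV_286884 rfl cV_286884
theorem uV_287352 : Upto T.chkV 287352 := upto_add uV_287118 rfl cV_287118
theorem uV_287586 : Upto T.chkV 287586 := upto_add uV_287352 rfl cV_287352
theorem uV_287820 : Upto T.chkV 287820 := upto_add uV_287586 rfl cV_287586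
theorem uV_288054 : Upto T.chkV 288054 := upto_add uV_287820 rfl cV_287820
theorem uV_288288 : Upto T.chkV 288288 := upto_add uV_288054 rfl cV_288054
theorem uV_288522 : Upto T.chkV 288522 := upto_add uV_288288 rfl cV_288288
theorem uV_288756 : Upto T.chkV 288756 := upto_add uV_288522 rfl cV_288522
theorem uV_288990 : Upto T.chkV 288990 := upto_add uV_288756 rfl cV_288756
theorem uV_289224 : Upto T.chkV 289224 := upto_add uV_288990 rfl cV_288990
theorem uV_289458 : Upto T.chkV 289458 := upto_add uV_289224 rfl cV_289224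
theorem uV_289692 : Upto T.chkV 289692 := upto_add uV_289458 rfl cV_289458
theorem uV_289926 : Upto T.chkV 289926 := upto_add uV_289692 rfl cV_289692
theorem uV_290160 : Upto T.chkV 290160 := upto_add uV_289926 rfl cV_289926
theorem uV_290394 : Upto T.chkV 290394 := upto_add uV_290160 rfl cV_290160
theorem uV_290628 : Upto T.chkV 290628 := upto_add uV_290394 rfl cV_290394
theorem uV_290862 : Upto T.chkV 290862 := upto_add uV_290628 rfl cV_290628
theorem uV_291096 : Upto T.chkV 291096 := upto_add uV_290862 rfl cV_290862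
theorem uV_291330 : Upto T.chkV 291330 := upto_add uV_291096 rfl cV_291096
theorem uV_291564 : Upto T.chkV 291564 := upto_add uV_291330 rfl cV_291330
theorem uV_291798 : Upto T.chkV 291798 := upto_add uV_291564 rfl cV_291564
theorem uV_292032 : Upto T.chkV 292032 := upto_add uV_291798 rfl cV_291798
theorem uV_292266 : Upto T.chkV 292266 := upto_add uV_292032 rfl cV_292032
theorem uV_292500 : Upto T.chkV 292500 := upto_add uV_292266 rfl cV_292266
theorem uV_292734 : Upto T.chkV 292734 := upto_add uV_292500 rfl cV_292500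
theorem uV_292968 : Upto T.chkV 292968 := upto_add uV_292734 rfl cV_292734
theorem uV_293202 : Upto T.chkV 293202 := upto_add uV_292968 rfl cV_292968
theorem uV_293436 : Upto T.chkV 293436 := upto_add uV_293202 rfl cV_293202
theorem uV_293670 : Upto T.chkV 293670 := upto_add uV_293436 rfl cV_293436
theorem uV_293904 : Upto T.chkV 293904 := upto_add uV_293670 rfl cV_293670
theorem uV_294138 : Upto T.chkV 294138 := upto_add uV_293904 rfl cV_293904
theorem uV_294372 : Upto T.chkV 294372 := upto_add uV_294138 rfl cV_294138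
theorem uV_294606 : Upto T.chkV 294606 := upto_add uV_294372 rfl cV_294372
theorem uV_294840 : Upto T.chkV 294840 := upto_add uV_294606 rfl cV_294606
theorem uV_295074 : Upto T.chkV 295074 := upto_add uV_294840 rfl cV_294840
theorem uV_295308 : Upto T.chkV 295308 := upto_add uV_295074 rfl cV_295074
theorem uV_295542 : Upto T.chkV 295542 := upto_add uV_295308 rfl cV_295308
theorem uV_295776 : Upto T.chkV 295776 := upto_add uV_295542 rfl cV_295542
theorem uV_296010 : Upto T.chkV 296010 := upto_add uV_295776 rfl cV_295776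
theorem uV_296244 : Upto T.chkV 296244 := upto_add uV_296010 rfl cV_296010
theorem uV_296478 : Upto T.chkV 296478 := upto_add uV_296244 rfl cV_296244
theorem uV_296712 : Upto T.chkV 296712 := upto_add uV_296478 rfl cV_296478
theorem uV_296946 : Upto T.chkV 296946 := upto_add uV_296712 rfl cV_296712
theorem uV_297180 : Upto T.chkV 297180 := upto_add uV_296946 rfl cV_296946
theorem uV_297414 : Upto T.chkV 297414 := upto_add uV_297180 rfl cV_297180
theorem uV_297648 : Upto T.chkV 297648 := upto_add uV_297414 rfl cV_297414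
theorem uV_297882 : Upto T.chkV 297882 := upto_add uV_297648 rfl cV_297648
theorem uV_298116 : Upto T.chkV 298116 := upto_add uV_297882 rfl cV_297882
theorem uV_298350 : Upto T.chkV 298350 := upto_add uV_298116 rfl cV_298116
theorem uV_298584 : Upto T.chkV 298584 := upto_add uV_298350 rfl cV_298350
theorem uV_298818 : Upto T.chkV 298818 := upto_add uV_298584 rfl cV_298584
theorem uV_299052 : Upto T.chkV 299052 := upto_add uV_298818 rfl cV_298818
theorem uV_299286 : Upto T.chkV 299286 := upto_add uV_299052 rfl cV_299052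
theorem uV_299520 : Upto T.chkV 299520 := upto_add uV_299286 rfl cV_299286
theorem uV_299754 : Upto T.chkV 299754 := upto_add uV_299520 rfl cV_299520
theorem uV_299988 : Upto T.chkV 299988 := upto_add uV_299754 rfl cV_299754
theorem uV_300222 : Upto T.chkV 300222 := upto_add uV_299988 rfl cV_299988
theorem uV_300456 : Upto T.chkV 300456 := upto_add uV_300222 rfl cV_300222
theorem uV_300690 : Upto T.chkV 300690 := upto_add uV_300456 rfl cV_300456
theorem uV_300924 : Upto T.chkV 300924 := upto_add uV_300690 rfl cV_300690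
theorem uV_301158 : Upto T.chkV 301158 := upto_add uV_300924 rfl cV_300924
theorem uV_301392 : Upto T.chkV 301392 := upto_add uV_301158 rfl cV_301158
theorem uV_301626 : Upto T.chkV 301626 := upto_add uV_301392 rfl cV_301392
theorem uV_301860 : Upto T.chkV 301860 := upto_add uV_301626 rfl cV_301626
theorem uV_302094 : Upto T.chkV 302094 := upto_add uV_301860 rfl cV_301860
theorem uV_302328 : Upto T.chkV 302328 := upto_add uV_302094 rfl cV_302094
theorem uV_302562 : Upto T.chkV 302562 := upto_add uV_302328 rfl cV_302328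
theorem uV_302796 : Upto T.chkV 302796 := upto_add uV_302562 rfl cV_302562
theorem uV_303030 : Upto T.chkV 303030 := upto_add uV_302796 rfl cV_302796
theorem uV_303264 : Upto T.chkV 303264 := upto_add uV_303030 rfl cV_303030
theorem uV_303498 : Upto T.chkV 303498 := upto_add uV_303264 rfl cV_303264
theorem uV_303732 : Upto T.chkV 303732 := upto_add uV_303498 rfl cV_303498
theorem uV_303966 : Upto T.chkV 303966 := upto_add uV_303732 rfl cV_303732
theorem uV_304200 : Upto T.chkV 304200 := upto_add uV_303966 rfl cV_303966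
theorem uV_304434 : Upto T.chkV 304434 := upto_add uV_304200 rfl cV_304200
theorem uV_304668 : Upto T.chkV 304668 := upto_add uV_304434 rfl cV_304434
theorem uV_304902 : Upto T.chkV 304902 := upto_add uV_304668 rfl cV_304668
theorem uV_305136 : Upto T.chkV 305136 := upto_add uV_304902 rfl cV_304902
theorem uV_305370 : Upto T.chkV 305370 := upto_add uV_305136 rfl cV_305136
theorem uV_305604 : Upto T.chkV 305604 := upto_add uV_305370 rfl cV_305370
theorem uV_305838 : Upto T.chkV 305838 := upto_add uV_305604 rfl cV_305604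
theorem uV_306072 : Upto T.chkV 306072 := upto_add uV_305838 rfl cV_305838
theorem uV_306306 : Upto T.chkV 306306 := upto_add uV_306072 rfl cV_306072
theorem uV_306540 : Upto T.chkV 306540 := upto_add uV_306306 rfl cV_306306
theorem uV_306774 : Upto T.chkV 306774 := upto_add uV_306540 rfl cV_306540
theorem uV_306936 : Upto T.chkV 306936 := upto_add uV_306774 rfl cV_306774

/-- The certificate is valid. -/
theorem cert : T.Cert where
  h0 := by decide +kernel
  hrx := by decide +kernel
  hs0 := by decide +kernel
  hname := uN_346164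
  hV := uV_306936

theorem orep_0 : T.orep 0 < T.N ∧ T.ol (T.orep 0) = 0 := by decide +kernel
theorem cnt_0 : countLt (fun v => Nat.beq (T.ol v) 0) T.N = 1 := by decide +kernel
theorem orep_1 : T.orep 1 < T.N ∧ T.ol (T.orep 1) = 1 := by decide +kernel
theorem cnt_1 : countLt (fun v => Nat.beq (T.ol v) 1) T.N = 275264 := by decide +kernel
theorem orep_2 : T.orep 2 < T.N ∧ T.ol (T.orep 2) = 2 := by decide +kernel
theorem cnt_2 : countLt (fun v => Nat.beq (T.ol v) 2) T.N = 31671 := by decide +kernel

end Cfsg.Agent.Lib.Helper56.Fi24a
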