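import Mathlib
import Cfsg.Agent.Lib.Helper56.TC
import Cfsg.Agent.Lib.Helper56.TCFast
import Cfsg.Agent.Lib.Helper56.Fi24a.DA0
import Cfsg.Agent.Lib.Helper56.Fi24a.DA1
import Cfsg.Agent.Lib.Helper56.Fi24a.DA2
import Cfsg.Agent.Lib.Helper56.Fi24a.DA3
import Cfsg.Agent.Lib.Helper56.Fi24a.DA4
import Cfsg.Agent.Lib.Helper56.Fi24a.DA5
import Cfsg.Agent.Lib.Helper56.Fi24a.DA6
import Cfsg.Agent.Lib.Helper56.Fi24a.DA7
import Cfsg.Agent.Lib.Helper56.Fi24a.DA8
import Cfsg.Agent.Lib.Helper56.Fi24a.DA9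
import Cfsg.Agent.Lib.Helper56.Fi24a.DA10
import Cfsg.Agent.Lib.Helper56.Fi24a.DA11
import Cfsg.Agent.Lib.Helper56.Fi24a.DA12
import Cfsg.Agent.Lib.Helper56.Fi24a.DA13
import Cfsg.Agent.Lib.Helper56.Fi24a.DA14
import Cfsg.Agent.Lib.Helper56.Fi24a.DA15
import Cfsg.Agent.Lib.Helper56.Fi24a.DA16
import Cfsg.Agent.Lib.Helper56.Fi24a.DA17
set_option autoImplicit false
set_option maxRecDepth 1000000

namespace Cfsg.Agent.Lib.Helper56.Fi24a

open Cfsg.Agent.Lib.Helper56.TC Cfsg.Agent.Lib.Helper56.TC.Tabs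

noncomputable def nA : List (List ℕ) := [nA0, nA1, nA2, nA3, nA4, nA5, nA6, nA7, nA8, nA9, nA10, nA11, nA12, nA13, nA14, nA15, nA16, nA17, nA18, nA19, nA20, nA21, nA22, nA23, nA24, nA25, nA26, nA27, nA28, nA29, nA30, nA31, nA32, nA33, nA34, nA35, nA36, nA37, nA38, nA39, nA40, nA41, nA42, nA43, nA44, nA45, nA46, nA47, nA48, nA49, nA50, nA51, nA52, nA53, nA54, nA55, nA56, nA57, nA58, nA59, nA60, nA61, nA62, nA63, nA64, nA65, nA66, nA67, nA68, nA69, nA70, nA71, nA72, nA73, nA74, nA75, nA76, nA77, nA78, nA79, nA80, nA81, nA82, nA83, nA84, nA85, nA86, nA87, nA88, nA89, nA90, nA91, nA92, nA93, nA94, nA95, nA96, nA97, nA98, nA99, nA100, nA101, nA102, nA103, nA104, nA105, nA106, nA107, nA108, nA109, nA110, nA111, nA112, nA113, nA114, nA115, nA116, nA117, nA118, nA119, nA120, nA121, nA122, nA123, nA124, nA125, nA126, nA127, nA128, nA129, nA130, nA131, nA132, nA133, nA134, nA135, nA136, nA137, nA138, nA139, nA140, nA141, nA142, nA143,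 nA144, nA145, nA146, nA147, nA148, nA149, nA150, nA151, nA152, nA153, nA154, nA155, nA156, nA157, nA158, nA159, nA160, nA161, nA162, nA163, nA164, nA165, nA166, nA167, nA168, nA169, nA170, nA171, nA172, nA173, nA174, nA175, nA176, nA177, nA178, nA179, nA180, nA181, nA182, nA183, nA184, nA185, nA186, nA187, nA188, nA189, nA190, nA191, nA192, nA193, nA194, nA195, nA196, nA197, nA198, nA199, nA200, nA201, nA202, nA203, nA204, nA205, nA206, nA207, nA208, nA209, nA210, nA211, nA212, nA213, nA214, nA215, nA216, nA217, nA218, nA219, nA220, nA221, nA222, nA223, nA224, nA225, nA226, nA227, nA228, nA229, nA230, nA231, nA232, nA233, nA234, nA235, nA236, nA237, nA238, nA239, nA240, nA241, nA242, nA243, nA244, nA245, nA246, nA247, nA248, nA249, nA250, nA251, nA252, nA253, nA254, nA255, nA256, nA257, nA258, nA259, nA260, nA261, nA262, nA263, nA264, nA265, nA266, nA267, nA268, nA269, nA270, nA271, nA272, nA273, nA274, nA275, nA276, nA277,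 nA278, nA279, nA280, nA281, nA282, nA283, nA284, nA285, nA286, nA287, nA288, nA289, nA290, nA291, nA292, nA293, nA294, nA295, nA296, nA297, nA298, nA299, nA300, nA301, nA302, nA303, nA304, nA305, nA306, nA307, nA308, nA309, nA310, nA311, nA312, nA313, nA314, nA315, nA316, nA317, nA318, nA319, nA320, nA321, nA322, nA323, nA324, nA325, nA326, nA327, nA328, nA329, nA330, nA331, nA332, nA333, nA334, nA335, nA336, nA337, nA338, nA339, nA340, nA341, nA342, nA343, nA344, nA345, nA346, nA347, nA348, nA349, nA350, nA351, nA352, nA353, nA354, nA355, nA356, nA357, nA358, nA359, nA360, nA361, nA362, nA363, nA364, nA365, nA366, nA367, nA368, nA369, nA370, nA371, nA372, nA373, nA374, nA375, nA376, nA377, nA378, nA379, nA380, nA381, nA382, nA383, nA384, nA385, nA386, nA387, nA388, nA389, nA390, nA391, nA392, nA393, nA394, nA395, nA396, nA397, nA398, nA399, nA400, nA401, nA402, nA403, nA404, nA405, nA406, nA407, nA408, nA409, nA410, nA411,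 nA412, nA413, nA414, nA415, nA416, nA417, nA418, nA419, nA420, nA421, nA422, nA423, nA424, nA425, nA426, nA427, nA428, nA429, nA430, nA431, nA432, nA433, nA434, nA435, nA436, nA437, nA438, nA439, nA440, nA441, nA442, nA443, nA444, nA445, nA446, nA447, nA448, nA449, nA450, nA451, nA452, nA453, nA454, nA455, nA456, nA457, nA458, nA459, nA460, nA461, nA462, nA463, nA464, nA465, nA466, nA467, nA468, nA469, nA470, nA471, nA472, nA473, nA474, nA475, nA476, nA477, nA478, nA479, nA480, nA481, nA482, nA483, nA484, nA485, nA486, nA487, nA488, nA489, nA490, nA491]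

noncomputable def fA : List (List ℕ) := [fA0, fA1, fA2, fA3, fA4, fA5, fA6, fA7, fA8, fA9, fA10, fA11, fA12, fA13, fA14, fA15, fA16, fA17, fA18, fA19, fA20, fA21, fA22, fA23, fA24, fA25, fA26, fA27, fA28, fA29, fA30, fA31, fA32, fA33, fA34, fA35, fA36, fA37, fA38, fA39, fA40, fA41, fA42, fA43, fA44, fA45, fA46, fA47, fA48, fA49, fA50, fA51, fA52, fA53, fA54, fA55, fA56, fA57, fA58, fA59, fA60, fA61, fA62, fA63, fA64, fA65, fA66, fA67, fA68, fA69, fA70, fA71, fA72, fA73, fA74, fA75, fA76, fA77, fA78, fA79, fA80, fA81, fA82, fA83, fA84, fA85, fA86, fA87, fA88, fA89, fA90, fA91, fA92, fA93, fA94, fA95, fA96, fA97, fA98, fA99, fA100, fA101, fA102, fA103, fA104, fA105, fA106, fA107, fA108, fA109, fA110, fA111, fA112, fA113, fA114, fA115, fA116, fA117, fA118, fA119, fA120, fA121, fA122, fA123, fA124, fA125, fA126, fA127, fA128, fA129, fA130, fA131, fA132, fA133, fA134, fA135, fA136, fA137, fA138, fA139, fA140, fA141, fA142, fA143,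 fA144, fA145, fA146, fA147, fA148, fA149, fA150, fA151, fA152, fA153, fA154, fA155, fA156, fA157, fA158, fA159]

/-- The certificate data. -/
noncomputable def T : Tabs where
  K := 12
  N := 306936
  N' := 346164
  INF := 3178590
  fuel := 4
  inv := fun l => l
  tg := slotFld2 nA 22 738 1445895146858607358437943727208769466035893202868007692637901788601699241144933631951807447549557758449099707135121406247999127995329736165184795181305316406492567598839150653733187621116264206194563768053163279547256274943 12 56 66 524287 (fun _ => 0)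
  rk := slotFld2 nA 22 738 1445895146858607358437943727208769466035893202868007692637901788601699241144933631951807447549557758449099707135121406247999127995329736165184795181305316406492567598839150653733187621116264206194563768053163279547256274943 12 56 85 4194303
    (fun x => Nat.rec (motive := fun _ => ℕ) 0 (fun _ _ => 3178590) x)
  jc := slotFld2 nA 22 738 1445895146858607358437943727208769466035893202868007692637901788601699241144933631951807447549557758449099707135121406247999127995329736165184795181305316406492567598839150653733187621116264206194563768053163279547256274943 12 56 107 32767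
    (fun x => Nat.rec (motive := fun _ => ℕ) 3 (fun _ _ => 0) x)
  dd := fldA nA 22 738 1445895146858607358437943727208769466035893202868007692637901788601699241144933631951807447549557758449099707135121406247999127995329736165184795181305316406492567598839150653733187621116264206194563768053163279547256274943 0 63
  dl := fldA nA 22 738 1445895146858607358437943727208769466035893202868007692637901788601699241144933631951807447549557758449099707135121406247999127995329736165184795181305316406492567598839150653733187621116264206194563768053163279547256274943 6 15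
  qj := fldA nA 22 738 1445895146858607358437943727208769466035893202868007692637901788601699241144933631951807447549557758449099707135121406247999127995329736165184795181305316406492567598839150653733187621116264206194563768053163279547256274943 10 32767
  mp := fldA nA 22 738 1445895146858607358437943727208769466035893202868007692637901788601699241144933631951807447549557758449099707135121406247999127995329736165184795181305316406492567598839150653733187621116264206194563768053163279547256274943 25 524287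
  mt := fldA nA 22 738 1445895146858607358437943727208769466035893202868007692637901788601699241144933631951807447549557758449099707135121406247999127995329736165184795181305316406492567598839150653733187621116264206194563768053163279547256274943 44 4194303
  tb := tbFld2 fA 60 269 948568795032094272909893509191171341133987714380927500611236528192824358010355711 19 41 524287
  rels1 := [[0, 1, 0, 1, 0, 1],
    [0, 2, 0, 2],
    [0, 3, 0, 3],
    [0, 4, 0, 4],
    [0, 5, 0, 5],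
    [0, 6, 0, 6],
    [0, 7, 0, 7],
    [0, 8, 0, 8],
    [0, 9, 0, 9],
    [0, 10, 0, 10],
    [0, 11, 0, 11],
    [1, 2, 1, 2, 1, 2],
    [1, 3, 1, 3],
    [1, 4, 1, 4],
    [1, 5, 1, 5],
    [1, 6, 1, 6],
    [1, 7, 1, 7],
    [1, 8, 1, 8],
    [1, 9, 1, 9],
    [1, 10, 1, 10],
    [1, 11, 1, 11],
    [2, 3, 2, 3, 2, 3],
    [2, 4, 2, 4],
    [2, 5, 2, 5],
    [2, 6, 2, 6],
    [2, 7, 2, 7],
    [2, 8, 2, 8],
    [2, 9, 2, 9],
    [2, 10, 2, 10],
    [2, 11, 2, 11],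
    [3, 4, 3, 4, 3, 4],
    [3, 5, 3, 5],
    [3, 6, 3, 6],
    [3, 7, 3, 7],
    [3, 8, 3, 8],
    [3, 9, 3, 9],
    [3, 10, 3, 10],
    [3, 11, 3, 11],
    [4, 5, 4, 5, 4, 5],
    [4, 6, 4, 6],
    [4, 7, 4, 7],
    [4, 8, 4, 8],
    [4, 9, 4, 9],
    [4, 10, 4, 10],
    [4, 11, 4, 11],
    [5, 6, 5, 6, 5, 6],
    [5, 7, 5, 7],
    [5, 8, 5, 8],
    [5, 9, 5, 9],
    [5, 10, 5, 10, 5, 10],
    [5, 11, 5, 11],
    [6, 7, 6, 7, 6, 7],
    [6, 8, 6, 8],
    [6, 9, 6, 9],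
    [6, 10, 6, 10],
    [6, 11, 6, 11],
    [7, 8, 7, 8, 7, 8],
    [7, 9, 7, 9],
    [7, 10, 7, 10],
    [7, 11, 7, 11],
    [8, 9, 8, 9, 8, 9],
    [8, 10, 8, 10],
    [8, 11, 8, 11],
    [9, 10, 9, 10],
    [9, 11, 9, 11],
    [10, 11, 10, 11, 10, 11],
    [0, 10, 7, 6, 5, 4, 3, 2, 10, 7, 6, 5, 4, 3, 2, 10, 7, 6, 5, 4, 3, 2, 10, 7, 6, 5, 4, 3, 2, 10, 7, 6, 5, 4, 3, 2, 10, 7, 6, 5, 4, 3, 2, 10, 7, 6, 5, 4, 3, 2, 10, 7, 6, 5, 4, 3, 2, 10, 7, 6, 5, 4, 3, 2],
    [5, 4, 3, 2, 1, 0, 5, 6, 7, 8, 9, 5, 10, 11, 5, 4, 3, 2, 1, 0, 5, 6, 7, 8, 9, 5, 10, 11, 5, 4, 3, 2, 1, 0, 5, 6, 7, 8, 9, 5, 10, 11, 5, 4, 3, 2, 1, 0, 5, 6, 7, 8, 9, 5, 10, 11, 5, 4, 3, 2, 1, 0, 5, 6, 7, 8, 9, 5, 10, 11, 5, 4, 3, 2, 1, 0, 5, 6, 7, 8, 9, 5, 10, 11, 5, 4, 3, 2, 1, 0, 5, 6, 7, 8, 9, 5, 10, 11, 5, 4, 3, 2, 1, 0, 5, 6, 7, 8, 9, 5, 10, 11, 5, 4, 3, 2, 1, 0, 5, 6, 7, 8, 9, 5, 10, 11, 5, 4, 3, 2, 1, 0, 5, 6, 7, 8, 9, 5, 10, 11, 5, 4, 3, 2, 1, 0, 5, 6, 7,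 8, 9, 5, 10, 11, 5, 4, 3, 2, 1, 0, 5, 6, 7, 8, 9, 5, 10, 11, 5, 4, 3, 2, 1, 0, 5, 6, 7, 8, 9, 5, 10, 11, 5, 4, 3, 2, 1, 0, 5, 6, 7, 8, 9, 5, 10, 11, 5, 4, 3, 2, 1, 0, 5, 6, 7, 8, 9, 5, 10, 11, 5, 4, 3, 2, 1, 0, 5, 6, 7, 8, 9, 5, 10, 11, 5, 4, 3, 2, 1, 0, 5, 6, 7, 8, 9, 5, 10, 11]]
  subs := [[2],
    [3],
    [4],
    [5],
    [6],
    [7],
    [8],
    [10],
    [11],
    [9],
    [0]]
  rx := [[0, 1, 0, 1, 0, 1],
    [0, 2, 0, 2],
    [0, 3, 0, 3],
    [0, 4, 0, 4],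
    [0, 5, 0, 5],
    [0, 6, 0, 6],
    [0, 7, 0, 7],
    [0, 8, 0, 8],
    [0, 9, 0, 9],
    [0, 10, 0, 10],
    [0, 11, 0, 11],
    [1, 2, 1, 2, 1, 2],
    [1, 3, 1, 3],
    [1, 4, 1, 4],
    [1, 5, 1, 5],
    [1, 6, 1, 6],
    [1, 7, 1, 7],
    [1, 8, 1, 8],
    [1, 9, 1, 9],
    [1, 10, 1, 10],
    [1, 11, 1, 11],
    [2, 3, 2, 3, 2, 3],
    [2, 4, 2, 4],
    [2, 5, 2, 5],
    [2, 6, 2, 6],
    [2, 7, 2, 7],
    [2, 8, 2, 8],
    [2, 9, 2, 9],
    [2, 10, 2, 10],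
    [2, 11, 2, 11],
    [3, 4, 3, 4, 3, 4],
    [3, 5, 3, 5],
    [3, 6, 3, 6],
    [3, 7, 3, 7],
    [3, 8, 3, 8],
    [3, 9, 3, 9],
    [3, 10, 3, 10],
    [3, 11, 3, 11],
    [4, 5, 4, 5, 4, 5],
    [4, 6, 4, 6],
    [4, 7, 4, 7],
    [4, 8, 4, 8],
    [4, 9, 4, 9],
    [4, 10, 4, 10],
    [4, 11, 4, 11],
    [5, 6, 5, 6, 5, 6],
    [5, 7, 5, 7],
    [5, 8, 5, 8],
    [5, 9, 5, 9],
    [5, 10, 5, 10, 5, 10],
    [5, 11, 5, 11],
    [6, 7, 6, 7, 6, 7],
    [6, 8, 6, 8],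
    [6, 9, 6, 9],
    [6, 10, 6, 10],
    [6, 11, 6, 11],
    [7, 8, 7, 8, 7, 8],
    [7, 9, 7, 9],
    [7, 10, 7, 10],
    [7, 11, 7, 11],
    [8, 9, 8, 9, 8, 9],
    [8, 10, 8, 10],
    [8, 11, 8, 11],
    [9, 10, 9, 10],
    [9, 11, 9, 11],
    [10, 11, 10, 11, 10, 11],
    [0, 10, 7, 6, 5, 4, 3, 2, 10, 7, 6, 5, 4, 3, 2, 10, 7, 6, 5, 4, 3, 2, 10, 7, 6, 5, 4, 3, 2, 10, 7, 6, 5, 4, 3, 2, 10, 7, 6, 5, 4, 3, 2, 10, 7, 6, 5, 4, 3, 2, 10, 7, 6, 5, 4, 3, 2, 10, 7, 6, 5, 4, 3, 2],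
    [5, 4, 3, 2, 1, 0, 5, 6, 7, 8, 9, 5, 10, 11, 5, 4, 3, 2, 1, 0, 5, 6, 7, 8, 9, 5, 10, 11, 5, 4, 3, 2, 1, 0, 5, 6, 7, 8, 9, 5, 10, 11, 5, 4, 3, 2, 1, 0, 5, 6, 7, 8, 9, 5, 10, 11, 5, 4, 3, 2, 1, 0, 5, 6, 7, 8, 9, 5, 10, 11, 5, 4, 3, 2, 1, 0, 5, 6, 7, 8, 9, 5, 10, 11, 5, 4, 3, 2, 1, 0, 5, 6, 7, 8, 9, 5, 10, 11, 5, 4, 3, 2, 1, 0, 5, 6, 7, 8, 9, 5, 10, 11, 5, 4, 3, 2, 1, 0, 5, 6, 7, 8, 9, 5, 10, 11, 5, 4, 3, 2, 1, 0, 5, 6, 7, 8, 9, 5, 10, 11, 5, 4, 3, 2, 1, 0, 5, 6, 7, 8, 9, 5, 10, 11, 5, 4, 3, 2, 1, 0, 5, 6, 7, 8, 9, 5, 10, 11, 5, 4, 3, 2, 1, 0, 5, 6, 7, 8, 9, 5, 10, 11, 5, 4, 3, 2, 1, 0, 5, 6, 7, 8, 9, 5, 10, 11, 5, 4, 3, 2, 1, 0, 5, 6, 7, 8, 9, 5, 10, 11, 5, 4, 3, 2, 1, 0, 5, 6, 7, 8, 9, 5, 10, 11, 5, 4, 3, 2, 1, 0, 5, 6, 7, 8, 9, 5, 10, 11],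
    [2, 12],
    [3, 13],
    [4, 14],
    [5, 15],
    [6, 16],
    [7, 17],
    [8, 18],
    [10, 19],
    [11, 20],
    [9, 21],
    [0, 22]]
  RB := 239
  tpl := fldA fA 60 269 948568795032094272909893509191171341133987714380927500611236528192824358010355711 0 15
  tdep := fldA fA 60 269 948568795032094272909893509191171341133987714380927500611236528192824358010355711 4 63
  ol := fldA fA 60 269 948568795032094272909893509191171341133987714380927500611236528192824358010355711 10 3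
  oc := fldA fA 60 269 948568795032094272909893509191171341133987714380927500611236528192824358010355711 12 15
  op := fldA fA 60 269 948568795032094272909893509191171341133987714380927500611236528192824358010355711 16 524287
  odep := fldA fA 60 269 948568795032094272909893509191171341133987714380927500611236528192824358010355711 35 63
  orep := fun c => Tabs.nth 0 [0, 1, 6] c

end Cfsg.Agent.Lib.Helper56.Fi24a
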